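import Groth.Agent.Lib.Hopf.Coeff
import Mathlib.RingTheory.Flat.Basic
import Mathlib.LinearAlgebra.Dimension.Free

/-!
Comodule structure on a subcomodule over a flat coalgebra; finitely generated Hopf subalgebras.
-/

open TensorProduct

namespace Groth.Agent.Lib.Hopf.SubHopf

universe u v w

open Groth.Agent.Lib.Hopf.ComodRing Groth.Agent.Lib.Hopf.Coeff HopfRep

variable {R : Type u} [CommRing R] {C : Type v} [AddCommGroup C] [Module R C] [Coalgebra R C]
  [Module.Flat R C] {V : Type w} [AddCommGroup V] [Module R V] [Comod R C V]
  {W : Submodule R V}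

omit [Coalgebra R C] [Comod R C V] in
lemma rTensor_subtype_injective : Function.Injective (W.subtype.rTensor C) :=
  Module.Flat.rTensor_preserves_injective_linearMap _ W.injective_subtype

/-- The restricted coaction. -/
noncomputable def subCoact (hW : IsSubcomod (k := R) (A := C) W) : W →ₗ[R] W ⊗[R] C :=
  (LinearEquiv.ofInjective _ (rTensor_subtype_injective (W := W) (C := C))).symm.toLinearMap ∘ₗ
    ((Comod.coact (k := R) (A := C) ∘ₗ W.subtype).codRestrict _ fun w => hW w w.2)

lemma rTensor_subCoact (hW : IsSubcomod (k := R) (A := C) W) (w : W) :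
    W.subtype.rTensor C (subCoact hW w) = Comod.coact (k := R) (A := C) (w : V) := by
  unfold subCoact
  rw [LinearMap.comp_apply, LinearEquiv.coe_coe, LinearEquiv.ofInjective_symm_apply]
  rfl

/-- A subcomodule as a comodule. -/
@[reducible] noncomputable def subComod (hW : IsSubcomod (k := R) (A := C) W) : Comod R C W where
  coact := subCoact hW
  coassoc := by
    refine LinearMap.ext fun w => ?_
    simp only [LinearMap.comp_apply, LinearEquiv.coe_coe]
    have hinj : Function.Injective (W.subtype.rTensor (C ⊗[R] C)) :=
      Module.Flat.rTensor_preserves_injective_linearMap _ W.injective_subtype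
    apply hinj
    have hnat : ∀ y : (W ⊗[R] C) ⊗[R] C,
        W.subtype.rTensor (C ⊗[R] C) (TensorProduct.assoc R W C C y) =
          TensorProduct.assoc R V C C ((W.subtype.rTensor C).rTensor C y) := by
      intro y
      induction y using TensorProduct.induction_on with
      | zero => simp
      | tmul a c =>
          induction a using TensorProduct.induction_on with
          | zero => simp
          | tmul v c' => simp
          | add a b ha hb => simp_all [TensorProduct.add_tmul]
      | add a b ha hb => simp_all
    have hcomp : W.subtype.rTensor C ∘ₗ subCoact hW = Comod.coact (k := R) (A := C) ∘ₗ W.subtype :=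
      LinearMap.ext (rTensor_subCoact hW)
    have hc := congr($(Comod.coassoc (k := R) (A := C) (V := V)) (w : V))
    simp only [LinearMap.comp_apply, LinearEquiv.coe_coe] at hc
    rw [hnat, ← LinearMap.comp_apply ((W.subtype.rTensor C).rTensor C), ← LinearMap.rTensor_comp,
      hcomp, LinearMap.rTensor_comp, LinearMap.comp_apply, rTensor_subCoact, hc,
      ← LinearMap.comp_apply (W.subtype.rTensor (C ⊗[R] C)), LinearMap.rTensor_comp_lTensor,
      ← LinearMap.lTensor_comp_rTensor, LinearMap.comp_apply, rTensor_subCoact]
  counit_comp := by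
    refine LinearMap.ext fun w => ?_
    apply (TensorProduct.rid R W).injective
    apply W.injective_subtype
    simp only [LinearMap.comp_apply, LinearMap.flip_apply, TensorProduct.mk_apply,
      TensorProduct.rid_tmul, one_smul]
    show W.subtype (slice (CoalgebraStruct.counit (R := R) (A := C)) (subCoact hW w)) = _
    rw [← slice_rTensor, rTensor_subCoact, counit_slice_coact]
    rfl

end Groth.Agent.Lib.Hopf.SubHopf

namespace Groth.Agent.Lib.Hopf.SubHopf

universe u' v'

open Groth.Agent.Lib.Hopf.ComodRing Groth.Agent.Lib.Hopf.Coeff HopfRep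

/-- Over a field any finite set of a commutative bialgebra lies in the span of the entries of a
corepresentation matrix. -/
lemma exists_corep_span_superset {k : Type u'} [Field k] {A : Type v'} [CommRing A] [Bialgebra k A]
    (s : Finset A) :
    ∃ (n : ℕ) (a : Matrix (Fin n) (Fin n) A), IsCorep k a ∧
      (s : Set A) ⊆ Submodule.span k (Set.range fun p : Fin n × Fin n => a p.1 p.2) := by
  obtain ⟨W, hW, hsW, hfg⟩ :=
    exists_fg_subcomod (C := A) (V := A) (Submodule.span k (s : Set A)) ⟨s, rfl⟩
  let _ := subComod hW
  have : Module.Finite k W := Module.Finite.iff_fg.2 hfg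
  obtain ⟨n, a, ha, hr⟩ := exists_corep_range_le (R := k) (A := A) (V := W) W.subtype
    (LinearMap.ext fun w => (rTensor_subCoact hW w).symm)
  refine ⟨n, a, ha, fun x hx => hr ⟨⟨x, hsW (Submodule.subset_span hx)⟩, rfl⟩⟩

/-- Over a field every finite set lies in a finitely generated Hopf subalgebra. -/
lemma exists_fg_hopfSubalgebra {k : Type u'} [Field k] {A : Type u'} [CommRing A] [HopfAlgebra k A]
    (s : Finset A) :
    ∃ B : Subalgebra k A, (s : Set A) ⊆ B ∧ B.FG ∧ SGA3.IsHopfSubalgebra k A B := by
  obtain ⟨n, a, ha, hs⟩ := exists_corep_span_superset (k := k) s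
  exact ⟨coeffAlg k a, fun x hx => span_entries_le_coeffAlg (hs hx), coeffAlg_fg,
    isHopfSubalgebra_coeffAlg ha⟩

end Groth.Agent.Lib.Hopf.SubHopf
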