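import Groth.Agent.Lib.Hopf.FaithfullyFlat

/-!
The Hopf algebra structure on a Hopf subalgebra over a field.
-/

open TensorProduct

namespace Groth.Agent.Lib.Hopf.SubStruct

universe u

variable {k : Type u} [Field k] {A : Type u} [CommRing A] [HopfAlgebra k A] (B : Subalgebra k A)

omit [HopfAlgebra k A] in
lemma map_val_injective {k : Type u} [Field k] {A C : Type u} [CommRing A] [Algebra k A]
    [CommRing C] [Algebra k C] {D : Type u} [CommRing D] [Algebra k D] (f : A →ₐ[k] C)
    (hf : Function.Injective f) {A' : Type u} [CommRing A'] [Algebra k A'] (g : A' →ₐ[k] D)
    (hg : Function.Injective g) : Function.Injective (Algebra.TensorProduct.map f g) := by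
  have h : ⇑(Algebra.TensorProduct.map f g) =
      ⇑(g.toLinearMap.lTensor C ∘ₗ f.toLinearMap.rTensor A') := by
    rw [LinearMap.lTensor_comp_rTensor]
    rfl
  rw [h, LinearMap.coe_comp]
  exact (Module.Flat.lTensor_preserves_injective_linearMap _ hg).comp
    (Module.Flat.rTensor_preserves_injective_linearMap _ hf)

variable {B} (hB : SGA3.IsHopfSubalgebra k A B)

/-- The comultiplication restricted to a Hopf subalgebra. -/
noncomputable def subComul : B →ₐ[k] B ⊗[k] B :=
  (AlgEquiv.ofInjective _ (map_val_injective B.val Subtype.val_injective B.val
      Subtype.val_injective)).symm.toAlgHom.comp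
    (((Bialgebra.comulAlgHom k A).comp B.val).codRestrict
      (Algebra.TensorProduct.map B.val B.val).range (fun b => by
        obtain ⟨y, hy⟩ := hB.1 b b.2
        exact ⟨y, hy⟩))

lemma map_subComul (b : B) :
    Algebra.TensorProduct.map B.val B.val (subComul hB b) = Bialgebra.comulAlgHom k A (b : A) := by
  have := congrArg Subtype.val (AlgEquiv.apply_symm_apply
    (AlgEquiv.ofInjective _ (map_val_injective B.val Subtype.val_injective B.val
      Subtype.val_injective))
    (((Bialgebra.comulAlgHom k A).comp B.val).codRestrict
      (Algebra.TensorProduct.map B.val B.val).range (fun b => by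
        obtain ⟨y, hy⟩ := hB.1 b b.2
        exact ⟨y, hy⟩) b))
  exact this

/-- The Hopf algebra structure on a Hopf subalgebra. -/
@[reducible] noncomputable def subHopf : HopfAlgebra k B := by
  letI : Bialgebra k B := Bialgebra.ofAlgHom (subComul hB)
    ((Bialgebra.counitAlgHom k A).comp B.val)
    (by
      refine AlgHom.ext fun b => ?_
      apply map_val_injective B.val Subtype.val_injective (Algebra.TensorProduct.map B.val B.val)
        (map_val_injective B.val Subtype.val_injective B.val Subtype.val_injective)
      have hL : ∀ z : B ⊗[k] B, Algebra.TensorProduct.map B.val (Algebra.TensorProduct.map B.val B.val)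
          (Algebra.TensorProduct.assoc k k k B B B
            (Algebra.TensorProduct.map (subComul hB) (AlgHom.id k B) z)) =
          TensorProduct.assoc k A A A ((CoalgebraStruct.comul (R := k) (A := A)).rTensor A
            (Algebra.TensorProduct.map B.val B.val z)) := by
        intro z
        induction z using TensorProduct.induction_on with
        | zero => simp
        | tmul p q =>
            simp only [Algebra.TensorProduct.map_tmul, LinearMap.rTensor_tmul, Subalgebra.coe_val,
              AlgHom.id_apply]
            rw [← Bialgebra.comulAlgHom_apply, ← map_subComul hB p]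
            generalize subComul hB p = y
            induction y using TensorProduct.induction_on with
            | zero => simp
            | tmul y z => simp
            | add y z hy hz => simp only [TensorProduct.add_tmul, map_add, hy, hz]
        | add p q hp hq => simp only [map_add, hp, hq]
      have hR : ∀ z : B ⊗[k] B, Algebra.TensorProduct.map B.val (Algebra.TensorProduct.map B.val B.val)
            (Algebra.TensorProduct.map (AlgHom.id k B) (subComul hB) z) =
          (CoalgebraStruct.comul (R := k) (A := A)).lTensor A
            (Algebra.TensorProduct.map B.val B.val z) := by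
        intro z
        induction z using TensorProduct.induction_on with
        | zero => simp
        | tmul p q => simp [map_subComul hB q]
        | add p q hp hq => simp only [map_add, hp, hq]
      simp only [AlgHom.comp_apply, AlgEquiv.coe_toAlgHom]
      rw [hL, hR, map_subComul, Bialgebra.comulAlgHom_apply, Coalgebra.coassoc_apply])
    (by
      refine AlgHom.ext fun b => ?_
      apply map_val_injective (AlgHom.id k k) Function.injective_id B.val Subtype.val_injective
      have hL : ∀ z : B ⊗[k] B, Algebra.TensorProduct.map (AlgHom.id k k) B.val
          (Algebra.TensorProduct.map ((Bialgebra.counitAlgHom k A).comp B.val) (AlgHom.id k B) z) =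
          (CoalgebraStruct.counit (R := k) (A := A)).rTensor A
            (Algebra.TensorProduct.map B.val B.val z) := by
        intro z
        induction z using TensorProduct.induction_on with
        | zero => simp
        | tmul p q => simp
        | add p q hp hq => simp only [map_add, hp, hq]
      simp only [AlgHom.comp_apply, AlgEquiv.coe_toAlgHom]
      rw [hL, map_subComul, Bialgebra.comulAlgHom_apply, Coalgebra.rTensor_counit_comul]
      simp)
    (by
      refine AlgHom.ext fun b => ?_
      apply map_val_injective B.val Subtype.val_injective (AlgHom.id k k) Function.injective_id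
      have hL : ∀ z : B ⊗[k] B, Algebra.TensorProduct.map B.val (AlgHom.id k k)
          (Algebra.TensorProduct.map (AlgHom.id k B) ((Bialgebra.counitAlgHom k A).comp B.val) z) =
          (CoalgebraStruct.counit (R := k) (A := A)).lTensor A
            (Algebra.TensorProduct.map B.val B.val z) := by
        intro z
        induction z using TensorProduct.induction_on with
        | zero => simp
        | tmul p q => simp
        | add p q hp hq => simp only [map_add, hp, hq]
      simp only [AlgHom.comp_apply, AlgEquiv.coe_toAlgHom]
      rw [hL, map_subComul, Bialgebra.comulAlgHom_apply, Coalgebra.lTensor_counit_comul]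
      simp)
  let S : B →ₐ[k] B :=
    ((HopfAlgebra.antipodeAlgHom k A).comp B.val).codRestrict B fun b => hB.2 _ b.2
  refine HopfAlgebra.ofAlgHom S ?_ ?_ <;> refine AlgHom.ext fun b => Subtype.ext ?_
  · have hL : ∀ z : B ⊗[k] B,
        ((Algebra.TensorProduct.lift S (AlgHom.id k B) (fun _ => Commute.all _) z : B) : A) =
          LinearMap.mul' k A ((HopfAlgebraStruct.antipode (R := k) (A := A)).rTensor A
            (Algebra.TensorProduct.map B.val B.val z)) := by
      intro z
      induction z using TensorProduct.induction_on with
      | zero => simp
      | tmul p q => erw [Algebra.TensorProduct.lift_tmul]; rfl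
      | add p q hp hq => simp only [map_add, Subalgebra.coe_add, hp, hq]
    rw [AlgHom.comp_apply, hL]
    erw [map_subComul hB b]
    rw [Bialgebra.comulAlgHom_apply, HopfAlgebra.mul_antipode_rTensor_comul_apply]
    rfl
  · have hL : ∀ z : B ⊗[k] B,
        ((Algebra.TensorProduct.lift (AlgHom.id k B) S (fun _ _ => Commute.all _ _) z : B) : A) =
          LinearMap.mul' k A ((HopfAlgebraStruct.antipode (R := k) (A := A)).lTensor A
            (Algebra.TensorProduct.map B.val B.val z)) := by
      intro z
      induction z using TensorProduct.induction_on with
      | zero => simp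
      | tmul p q => erw [Algebra.TensorProduct.lift_tmul]; rfl
      | add p q hp hq => simp only [map_add, Subalgebra.coe_add, hp, hq]
    rw [AlgHom.comp_apply, hL]
    erw [map_subComul hB b]
    rw [Bialgebra.comulAlgHom_apply, HopfAlgebra.mul_antipode_lTensor_comul_apply]
    rfl

end Groth.Agent.Lib.Hopf.SubStruct
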