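import Groth.Agent.Lib.Hopf.SubHopf
import Mathlib.RingTheory.Flat.EquationalCriterion
import Mathlib.RingTheory.Flat.FaithfullyFlat.Basic
import Mathlib.LinearAlgebra.Contraction
import Mathlib.LinearAlgebra.Matrix.Adjugate
import Mathlib.RingTheory.Nakayama

/-!
A commutative Hopf algebra over a field is faithfully flat over every Hopf subalgebra.
Elementary proof: every finitely generated Hopf submodule `M ⊆ A` over the Hopf subalgebra `B` is
projective, because the ideal of `b : B` with `b • id_M` in the span of rank one maps is invariant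
under the comultiplication and is not contained in the augmentation ideal.
-/

open TensorProduct

namespace Groth.Agent.Lib.Hopf.FaithfullyFlat

universe u

open Groth.Agent.Lib.Hopf.ComodRing HopfRep

namespace Minimal

variable {k : Type*} [Field k] {B : Type*} [CommRing B] [Algebra k B] {M : Type*} [AddCommGroup M]
  [Module B M] [Module k M] [IsScalarTower k B M]

/-- Minimal generators of a finite module at a `k`-point, with dual functionals. -/
lemma exists_minimal_generators (ε : B →ₐ[k] k) [Module.Finite B M] :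
    ∃ (n : ℕ) (g : Fin n → M) (b₀ : B) (f : Fin n → (M →ₗ[k] k)),
      ε b₀ ≠ 0 ∧ (∀ m : M, b₀ • m ∈ LinearMap.range (Fintype.linearCombination B g)) ∧
      (∀ (l : Fin n) (b : B) (m : M), f l (b • m) = ε b * f l m) ∧
      ∀ l i, f l (g i) = if l = i then 1 else 0 := by
  classical
  let p : Ideal B := RingHom.ker ε
  let π : M →ₗ[B] M ⧸ (p • ⊤ : Submodule B M) := (p • ⊤ : Submodule B M).mkQ
  have hsm : ∀ (b : B) (x : M ⧸ (p • ⊤ : Submodule B M)), b • x = ε b • x := by
    intro b x
    obtain ⟨m, rfl⟩ := Submodule.mkQ_surjective _ x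
    rw [← algebraMap_smul B (ε b), ← sub_eq_zero, ← sub_smul, ← map_smul, Submodule.mkQ_apply,
      Submodule.Quotient.mk_eq_zero]
    refine Submodule.smul_mem_smul ?_ Submodule.mem_top
    rw [RingHom.mem_ker, map_sub, AlgHom.commutes]
    simp
  obtain ⟨s, hs⟩ : (⊤ : Submodule B M).FG := Module.finite_def.1 inferInstance
  have : Module.Finite k (M ⧸ (p • ⊤ : Submodule B M)) := by
    refine ⟨⟨s.image π, eq_top_iff.2 fun x _ => ?_⟩⟩
    obtain ⟨m, rfl⟩ := Submodule.mkQ_surjective _ x
    have hm : m ∈ Submodule.span B (s : Set M) := hs ▸ Submodule.mem_top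
    clear hs
    induction hm using Submodule.span_induction with
    | mem y hy => exact Submodule.subset_span (Finset.mem_coe.2 (Finset.mem_image_of_mem _ hy))
    | zero => simp
    | add y z _ _ hy hz => rw [map_add]; exact add_mem (hy trivial) (hz trivial)
    | smul c y _ hy => rw [map_smul, hsm]; exact Submodule.smul_mem _ _ (hy trivial)
  let bQ := Module.finBasis k (M ⧸ (p • ⊤ : Submodule B M))
  choose g hg using fun i => Submodule.mkQ_surjective (p • ⊤ : Submodule B M) (bQ i)
  have hle : (⊤ : Submodule B M) ≤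
      LinearMap.range (Fintype.linearCombination B g) ⊔ p • ⊤ := by
    intro m _
    rw [Submodule.mem_sup]
    refine ⟨∑ i, algebraMap k B (bQ.repr (π m) i) • g i,
      ⟨_, Fintype.linearCombination_apply B g _⟩,
      m - ∑ i, algebraMap k B (bQ.repr (π m) i) • g i, ?_, by abel⟩
    rw [← Submodule.Quotient.mk_eq_zero, ← Submodule.mkQ_apply, map_sub, sub_eq_zero]
    conv_lhs => rw [← bQ.sum_repr ((p • ⊤ : Submodule B M).mkQ m)]
    simp only [map_sum, algebraMap_smul, LinearMap.map_smul_of_tower, hg]
    rfl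
  obtain ⟨r, hr, hr'⟩ := Submodule.exists_sub_one_mem_and_smul_le_of_fg_of_le_sup
    (N' := (⊤ : Submodule B M)) (Module.finite_def.1 inferInstance) le_rfl hle
  refine ⟨_, g, r, fun l => (bQ.coord l) ∘ₗ (π.restrictScalars k), ?_,
    fun m => hr' (Submodule.smul_mem_pointwise_smul m r ⊤ Submodule.mem_top), ?_, ?_⟩
  · intro h0
    rw [RingHom.mem_ker, map_sub, map_one, h0] at hr
    simp at hr
  · intro l b m
    simp only [LinearMap.comp_apply, LinearMap.restrictScalars_apply, map_smul, hsm, smul_eq_mul]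
  · intro l i
    show bQ.coord l (π (g i)) = _
    rw [hg, Module.Basis.coord_apply, Module.Basis.repr_self, Finsupp.single_apply]
    simp [eq_comm]

end Minimal

variable {k : Type u} [Field k] {A : Type u} [CommRing A] [HopfAlgebra k A]

/-- `a ⊗ a' ↦ Δ a * (1 ⊗ a')`. -/
noncomputable def tw : A ⊗[k] A →ₐ[k] A ⊗[k] A :=
  Algebra.TensorProduct.lift (Bialgebra.comulAlgHom k A)
    (Algebra.TensorProduct.includeRight (R := k) (A := A) (B := A)) (fun _ _ => Commute.all _ _)

/-- `a ⊗ a' ↦ (id ⊗ S) (Δ a) * (1 ⊗ a')`. -/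
noncomputable def tw' : A ⊗[k] A →ₐ[k] A ⊗[k] A :=
  Algebra.TensorProduct.lift
    ((Algebra.TensorProduct.map (AlgHom.id k A) (HopfAlgebra.antipodeAlgHom k A)).comp
      (Bialgebra.comulAlgHom k A))
    (Algebra.TensorProduct.includeRight (R := k) (A := A) (B := A)) (fun _ _ => Commute.all _ _)

lemma tw_tmul (a a' : A) :
    tw (a ⊗ₜ[k] a') = CoalgebraStruct.comul (R := k) a * ((1 : A) ⊗ₜ[k] a') := by
  simp [tw]

lemma tw_tmul_one (a : A) : tw (a ⊗ₜ[k] (1 : A)) = CoalgebraStruct.comul (R := k) a := by
  rw [tw_tmul, ← Algebra.TensorProduct.one_def, mul_one]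

lemma tw'_tmul (a a' : A) :
    tw' (a ⊗ₜ[k] a') = ((HopfAlgebraStruct.antipode (R := k) (A := A)).lTensor A
      (CoalgebraStruct.comul (R := k) a)) * ((1 : A) ⊗ₜ[k] a') := by
  simp only [tw', Algebra.TensorProduct.lift_tmul, AlgHom.comp_apply,
    Bialgebra.comulAlgHom_apply, Algebra.TensorProduct.includeRight_apply]
  congr 1

lemma tw_tw'_tmul_one (a : A) : tw (tw' (a ⊗ₜ[k] (1 : A))) = a ⊗ₜ[k] (1 : A) := by
  rw [tw'_tmul, ← Algebra.TensorProduct.one_def, mul_one]
  have key : ∀ y : A ⊗[k] A,
      tw ((HopfAlgebraStruct.antipode (R := k) (A := A)).lTensor A y) =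
        ((LinearMap.mul' k A) ∘ₗ (HopfAlgebraStruct.antipode (R := k) (A := A)).lTensor A).lTensor A
          (TensorProduct.assoc k A A A ((CoalgebraStruct.comul (R := k) (A := A)).rTensor A y)) := by
    intro y
    induction y using TensorProduct.induction_on with
    | zero => simp
    | tmul x z =>
        rw [LinearMap.lTensor_tmul, tw_tmul, LinearMap.rTensor_tmul]
        generalize CoalgebraStruct.comul (R := k) x = c
        induction c using TensorProduct.induction_on with
        | zero => simp
        | tmul c₁ c₂ => simp [Algebra.TensorProduct.tmul_mul_tmul]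
        | add c c' hc hc' => simp only [add_mul, TensorProduct.add_tmul, map_add, hc, hc']
    | add x z hx hz => simp only [map_add, hx, hz]
  rw [key, Coalgebra.coassoc_apply, ← LinearMap.comp_apply, ← LinearMap.lTensor_comp,
    LinearMap.comp_assoc, HopfAlgebra.mul_antipode_lTensor_comul, LinearMap.lTensor_comp,
    LinearMap.comp_apply, Coalgebra.lTensor_counit_comul, LinearMap.lTensor_tmul]
  simp

lemma tw_tw' (y : A ⊗[k] A) : tw (tw' y) = y := by
  induction y using TensorProduct.induction_on with
  | zero => simp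
  | tmul a a' =>
      rw [show a ⊗ₜ[k] a' = (a ⊗ₜ[k] (1 : A)) * ((1 : A) ⊗ₜ[k] a') by simp, map_mul, map_mul,
        tw_tw'_tmul_one]
      congr 1
      rw [tw'_tmul, Bialgebra.comul_one, Algebra.TensorProduct.one_def, LinearMap.lTensor_tmul,
        HopfAlgebra.antipode_one, ← Algebra.TensorProduct.one_def, one_mul, tw_tmul,
        Bialgebra.comul_one, one_mul]
  | add a b ha hb => simp [ha, hb]

omit [HopfAlgebra k A] in
lemma mul_mem_tensorRight [Algebra k A] {P Q P' : Submodule k A}
    (h : ∀ p ∈ P, ∀ q ∈ Q, p * q ∈ P') {y z : A ⊗[k] A}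
    (hy : y ∈ tensorRight A P) (hz : z ∈ tensorRight A Q) : y * z ∈ tensorRight A P' := by
  obtain ⟨y, rfl⟩ := hy
  obtain ⟨z, rfl⟩ := hz
  induction y using TensorProduct.induction_on with
  | zero => simp
  | tmul p c =>
      induction z using TensorProduct.induction_on with
      | zero => simp
      | tmul q c' =>
          simp only [LinearMap.rTensor_tmul, Submodule.coe_subtype,
            Algebra.TensorProduct.tmul_mul_tmul]
          exact tmul_mem_tensorRight (h _ p.2 _ q.2) _
      | add a b ha hb => rw [map_add, mul_add]; exact add_mem ha hb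
  | add a b ha hb => rw [map_add, add_mul]; exact add_mem ha hb

omit [HopfAlgebra k A] in
lemma slice_mul_left [Algebra k A] (χ : A →ₗ[k] k) (a : A) (y : A ⊗[k] A) :
    slice χ ((a ⊗ₜ[k] (1 : A)) * y) = a * slice χ y := by
  induction y using TensorProduct.induction_on with
  | zero => simp
  | tmul x z => simp [Algebra.TensorProduct.tmul_mul_tmul]
  | add x z hx hz => simp [mul_add, hx, hz]

omit [HopfAlgebra k A] in
lemma slice_mul_tmul [Algebra k A] (χ : A →ₗ[k] k) (y : A ⊗[k] A) (p q : A) :
    slice χ (y * (p ⊗ₜ[k] q)) = slice (χ ∘ₗ LinearMap.mulRight k q) y * p := by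
  induction y using TensorProduct.induction_on with
  | zero => simp
  | tmul x z => simp [Algebra.TensorProduct.tmul_mul_tmul]
  | add x z hx hz => simp [add_mul, hx, hz]

variable {B : Subalgebra k A} (hB : SGA3.IsHopfSubalgebra k A B)

section

include hB

lemma comul_mem_right {b : A} (hb : b ∈ B) :
    CoalgebraStruct.comul (R := k) b ∈ tensorRight A B.toSubmodule := by
  obtain ⟨y, hy⟩ := hB.1 b hb
  rw [← hy]
  clear hy
  induction y using TensorProduct.induction_on with
  | zero => simp
  | tmul p q => exact tmul_mem_tensorRight (U := B.toSubmodule) p.2 _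
  | add p q hp hq => rw [map_add]; exact add_mem hp hq

lemma tw_mem_right {y : A ⊗[k] A} (hy : y ∈ tensorRight A B.toSubmodule) :
    tw y ∈ tensorRight A B.toSubmodule := by
  obtain ⟨y, rfl⟩ := hy
  induction y using TensorProduct.induction_on with
  | zero => simp
  | tmul p q =>
      simp only [LinearMap.rTensor_tmul, Submodule.coe_subtype, tw_tmul]
      exact mul_mem_tensorRight (fun p hp q hq => B.mul_mem hp hq) (comul_mem_right hB p.2)
        (tmul_mem_tensorRight (U := B.toSubmodule) B.one_mem _)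
  | add p q hp hq => rw [map_add, map_add]; exact add_mem hp hq

/-- An ideal of a Hopf subalgebra stable under comultiplication and not killed by the counit is
everything. -/
lemma ideal_eq_top (I : Ideal B)
    (hI : ∀ b ∈ I, ∀ χ : A →ₗ[k] k, ∃ b' ∈ I, ((b' : B) : A) = slice χ (CoalgebraStruct.comul (R := k) (b : A)))
    {b : B} (hb : b ∈ I) (hε : CoalgebraStruct.counit (R := k) (b : A) ≠ 0) : I = ⊤ := by
  let Ik : Submodule k A := (I.restrictScalars k).map B.val.toLinearMap
  have h1 : CoalgebraStruct.comul (R := k) (b : A) ∈ tensorRight A Ik :=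
    mem_tensorRight_of_slices fun χ => by
      obtain ⟨b', hb', he⟩ := hI b hb χ
      exact ⟨b', hb', he⟩
  obtain ⟨π, hπ⟩ := LinearMap.exists_leftInverse_of_injective B.toSubmodule.subtype
    (Submodule.ker_subtype _)
  let P : A →ₗ[k] A := B.toSubmodule.subtype ∘ₗ π
  have hP : ∀ x ∈ B, P x = x := fun x hx =>
    congrArg Subtype.val (LinearMap.congr_fun hπ ⟨x, hx⟩)
  have h2 : P.lTensor A (CoalgebraStruct.comul (R := k) (b : A)) =
      CoalgebraStruct.comul (R := k) (b : A) := by
    obtain ⟨y, hy⟩ := hB.1 b b.2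
    rw [← hy]
    clear hy
    induction y using TensorProduct.induction_on with
    | zero => simp
    | tmul p q => simp [hP _ q.2]
    | add p q hp hq => simp [hp, hq]
  have h3 : ∀ y ∈ tensorRight A Ik, LinearMap.mul' k A
      ((HopfAlgebraStruct.antipode (R := k) (A := A)).lTensor A (P.lTensor A y)) ∈ Ik := by
    rintro y ⟨y, rfl⟩
    induction y using TensorProduct.induction_on with
    | zero => simp
    | tmul p q =>
        obtain ⟨p', hp', he⟩ := p.2
        have hq : HopfAlgebraStruct.antipode (R := k) (P q) ∈ B := hB.2 _ (π q).2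
        refine ⟨p' * ⟨_, hq⟩, Ideal.mul_mem_right _ I hp', ?_⟩
        simp [← he]
    | add p q hp hq => simp only [map_add]; exact add_mem hp hq
  have h4 := h3 _ h1
  rw [h2, HopfAlgebra.mul_antipode_lTensor_comul_apply] at h4
  obtain ⟨b', hb', he⟩ := h4
  refine Ideal.eq_top_of_isUnit_mem I hb' ?_
  have : b' = algebraMap k B (CoalgebraStruct.counit (R := k) (b : A)) := Subtype.ext he
  rw [this]
  exact (Ne.isUnit hε).map _

variable {M : Submodule B A}
  (hM : ∀ m ∈ M, CoalgebraStruct.comul (R := k) m ∈ tensorRight A (M.restrictScalars k))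

include hM

omit hB in
lemma tw'_mem {m : A} (hm : m ∈ M) (a : A) :
    tw' (m ⊗ₜ[k] a) ∈ tensorRight A (M.restrictScalars k) := by
  obtain ⟨y, hy⟩ := hM m hm
  rw [tw'_tmul, ← hy]
  clear hy
  induction y using TensorProduct.induction_on with
  | zero => simp
  | tmul p q =>
      simp only [LinearMap.rTensor_tmul, Submodule.coe_subtype, LinearMap.lTensor_tmul,
        Algebra.TensorProduct.tmul_mul_tmul, mul_one]
      exact tmul_mem_tensorRight p.2 _
  | add p q hp hq => simp only [map_add, add_mul]; exact add_mem hp hq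

/-- The twisted functional attached to `φ : M → B` and `χ : A → k`. -/
lemma exists_twist (φ : M →ₗ[B] B) (χ : A →ₗ[k] k) (Φ : A →ₗ[k] A)
    (hΦ : ∀ m : M, Φ (m : A) = φ m) :
    ∃ ψ : M →ₗ[B] B, ∀ m : M,
      ((ψ m : B) : A) = slice χ (tw (Φ.rTensor A (tw' ((m : A) ⊗ₜ[k] (1 : A))))) := by
  let Y : A → A ⊗[k] A := fun m => tw (Φ.rTensor A (tw' (m ⊗ₜ[k] (1 : A))))
  have hmem : ∀ m ∈ M, slice χ (Y m) ∈ B := by
    intro m hm
    refine slice_mem_of_mem (U := B.toSubmodule) (tw_mem_right hB ?_) χ
    obtain ⟨y, hy⟩ := tw'_mem hM hm 1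
    rw [← hy]
    clear hy
    induction y using TensorProduct.induction_on with
    | zero => simp
    | tmul p q =>
        rw [LinearMap.rTensor_tmul, LinearMap.rTensor_tmul, Submodule.coe_subtype]
        refine tmul_mem_tensorRight ?_ _
        have := hΦ ⟨p.1, p.2⟩
        exact this ▸ (φ ⟨p.1, p.2⟩).2
    | add p q hp hq => rw [map_add, map_add]; exact add_mem hp hq
  have hsmul : ∀ b ∈ B, ∀ m ∈ M, Y (b * m) = (b ⊗ₜ[k] (1 : A)) * Y m := by
    intro b hb m hm
    have key : ∀ β ∈ tensorRight A B.toSubmodule, ∀ w ∈ tensorRight A (M.restrictScalars k),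
        Φ.rTensor A (β * w) = β * Φ.rTensor A w := by
      rintro β ⟨β, rfl⟩ w ⟨w, rfl⟩
      induction β using TensorProduct.induction_on with
      | zero => simp
      | tmul x z =>
          induction w using TensorProduct.induction_on with
          | zero => simp
          | tmul p q =>
              simp only [LinearMap.rTensor_tmul, Submodule.coe_subtype,
                Algebra.TensorProduct.tmul_mul_tmul]
              congr 1
              have h1 := hΦ ((⟨x.1, x.2⟩ : B) • ⟨p.1, p.2⟩)
              have h2 := hΦ ⟨p.1, p.2⟩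
              simp only [map_smul, smul_eq_mul, Subalgebra.coe_mul] at h1
              rw [← h2] at h1
              exact h1
          | add p q hp hq => simp only [map_add, mul_add, hp, hq]
      | add p q hp hq => simp only [map_add, add_mul, hp, hq]
    have hβ : tw' (b ⊗ₜ[k] (1 : A)) ∈ tensorRight A B.toSubmodule := by
      obtain ⟨y, hy⟩ := comul_mem_right hB hb
      rw [tw'_tmul, ← hy]
      clear hy
      induction y using TensorProduct.induction_on with
      | zero => simp
      | tmul p q =>
          simp only [LinearMap.rTensor_tmul, Submodule.coe_subtype, LinearMap.lTensor_tmul,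
            Algebra.TensorProduct.tmul_mul_tmul, mul_one]
          exact tmul_mem_tensorRight p.2 _
      | add p q hp hq => simp only [map_add, add_mul]; exact add_mem hp hq
    show tw _ = _
    rw [show (b * m) ⊗ₜ[k] (1 : A) = (b ⊗ₜ[k] (1 : A)) * (m ⊗ₜ[k] (1 : A)) by simp, map_mul,
      key _ hβ _ (tw'_mem hM hm 1), map_mul, tw_tw']
  refine ⟨{ toFun := fun m => ⟨slice χ (Y m), hmem _ m.2⟩, map_add' := ?_, map_smul' := ?_ },
    fun m => rfl⟩
  · intro m n
    apply Subtype.ext
    simp [Y, TensorProduct.add_tmul]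
  · intro b m
    apply Subtype.ext
    show slice χ (Y ((b : A) * (m : A))) = (b : A) * slice χ (Y (m : A))
    rw [hsmul _ b.2 _ m.2, slice_mul_left]

omit hB hM in
/-- An extension of `φ : M → B` to a `k`-linear endomorphism of `A`. -/
lemma exists_extension (φ : M →ₗ[B] A) : ∃ Φ : A →ₗ[k] A, ∀ m : M, Φ (m : A) = φ m := by
  obtain ⟨Φ, hΦ⟩ := LinearMap.exists_extend (p := M.restrictScalars k) (φ.restrictScalars k)
  exact ⟨Φ, fun m => LinearMap.congr_fun hΦ m⟩

lemma evalIdeal_stable (h1 : (1 : A) ∈ M) (b : B)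
    (hb : b ∈ LinearMap.range (LinearMap.applyₗ (R := B) (M₂ := B) (⟨1, h1⟩ : M)))
    (χ : A →ₗ[k] k) :
    ∃ b' ∈ LinearMap.range (LinearMap.applyₗ (R := B) (M₂ := B) (⟨1, h1⟩ : M)),
      ((b' : B) : A) = slice χ (CoalgebraStruct.comul (R := k) (b : A)) := by
  obtain ⟨φ, rfl⟩ := hb
  obtain ⟨Φ, hΦ⟩ := exists_extension (M := M) ((Algebra.linearMap B A) ∘ₗ φ)
  obtain ⟨ψ, hψ⟩ := exists_twist hB hM φ χ Φ hΦ
  refine ⟨_, ⟨ψ, rfl⟩, ?_⟩
  have h := hΦ ⟨1, h1⟩
  show ((ψ ⟨1, h1⟩ : B) : A) = slice χ (CoalgebraStruct.comul (R := k) ((φ ⟨1, h1⟩ : B) : A))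
  rw [hψ ⟨1, h1⟩]
  simp only [← Algebra.TensorProduct.one_def, map_one]
  rw [Algebra.TensorProduct.one_def, LinearMap.rTensor_tmul, h, tw_tmul_one]
  rfl

lemma traceIdeal_stable (b : B)
    (hb : b • LinearMap.id ∈ LinearMap.range (dualTensorHom B M M)) (χ : A →ₗ[k] k) :
    ∃ b' : B, b' • LinearMap.id ∈ LinearMap.range (dualTensorHom B M M) ∧
      ((b' : B) : A) = slice χ (CoalgebraStruct.comul (R := k) (b : A)) := by
  have key : ∀ t : Module.Dual B M ⊗[B] M, ∀ G : A →ₗ[k] A,
      (∀ m : M, G (m : A) = (dualTensorHom B M M t m : A)) →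
      ∃ f ∈ LinearMap.range (dualTensorHom B M M), ∀ m : M,
        ((f m : M) : A) = slice χ (tw (G.rTensor A (tw' ((m : A) ⊗ₜ[k] (1 : A))))) := by
    intro t
    induction t using TensorProduct.induction_on with
    | zero =>
        intro G hG
        refine ⟨0, zero_mem _, fun m => ?_⟩
        obtain ⟨y, hy⟩ := tw'_mem hM m.2 1
        rw [← hy, ← LinearMap.comp_apply (G.rTensor A), ← LinearMap.rTensor_comp]
        have : G ∘ₗ (M.restrictScalars k).subtype = 0 := by
          ext x
          simpa using hG ⟨x.1, x.2⟩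
        simp [this]
    | tmul φ g =>
        intro G hG
        obtain ⟨Φ, hΦ⟩ := exists_extension (M := M) ((Algebra.linearMap B A) ∘ₗ φ)
        have hkey : ∀ z ∈ tensorRight A (M.restrictScalars k),
            ∃ f ∈ LinearMap.range (dualTensorHom B M M), ∀ m : M, ((f m : M) : A) =
              slice χ (tw (Φ.rTensor A (tw' ((m : A) ⊗ₜ[k] (1 : A)))) * z) := by
          rintro z ⟨z, rfl⟩
          induction z using TensorProduct.induction_on with
          | zero => exact ⟨0, zero_mem _, fun m => by simp⟩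
          | tmul p q =>
              obtain ⟨ψ, hψ⟩ := exists_twist hB hM φ (χ ∘ₗ LinearMap.mulRight k q) Φ hΦ
              refine ⟨_, ⟨ψ ⊗ₜ[B] ⟨p.1, p.2⟩, rfl⟩, fun m => ?_⟩
              rw [LinearMap.rTensor_tmul, Submodule.coe_subtype, slice_mul_tmul, ← hψ m,
                dualTensorHom_apply]
              rfl
          | add z z' hz hz' =>
              obtain ⟨f, hf, hf'⟩ := hz
              obtain ⟨g, hg, hg'⟩ := hz'
              refine ⟨f + g, add_mem hf hg, fun m => ?_⟩
              simp [mul_add, hf' m, hg' m]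
        obtain ⟨f, hf, hf'⟩ := hkey _ (hM g g.2)
        refine ⟨f, hf, fun m => ?_⟩
        rw [hf' m]
        obtain ⟨y, hy⟩ := tw'_mem hM m.2 1
        rw [← hy, ← tw_tmul_one (k := k) (g : A), ← map_mul]
        congr 2
        clear hy
        induction y using TensorProduct.induction_on with
        | zero => simp
        | tmul p q =>
            simp only [LinearMap.rTensor_tmul, Submodule.coe_subtype,
              Algebra.TensorProduct.tmul_mul_tmul, mul_one]
            congr 1
            rw [hG ⟨p.1, p.2⟩, hΦ ⟨p.1, p.2⟩, dualTensorHom_apply]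
            rfl
        | add p q hp hq => simp only [map_add, add_mul, hp, hq]
    | add t t' ht ht' =>
        intro G hG
        obtain ⟨G₁, hG₁⟩ := exists_extension (M := M) (M.subtype ∘ₗ dualTensorHom B M M t)
        obtain ⟨f, hf, hf'⟩ := ht G₁ hG₁
        obtain ⟨g, hg, hg'⟩ := ht' (G - G₁) fun m => by simp [hG m, hG₁ m]
        refine ⟨f + g, add_mem hf hg, fun m => ?_⟩
        simp [hf' m, hg' m, LinearMap.rTensor_sub]
  obtain ⟨t, ht⟩ := hb
  obtain ⟨f, hf, hf'⟩ := key t (LinearMap.mulLeft k (b : A)) fun m => by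
    rw [ht]; rfl
  have hmem : slice χ (CoalgebraStruct.comul (R := k) (b : A)) ∈ B :=
    slice_mem_of_mem (U := B.toSubmodule) (comul_mem_right hB b.2) χ
  refine ⟨⟨_, hmem⟩, ?_, rfl⟩
  have : ((⟨_, hmem⟩ : B) • LinearMap.id : M →ₗ[B] M) = f := by
    refine LinearMap.ext fun m => Subtype.ext ?_
    rw [hf' m]
    have : ∀ y : A ⊗[k] A, (LinearMap.mulLeft k (b : A)).rTensor A y =
        ((b : A) ⊗ₜ[k] (1 : A)) * y := by
      intro y
      induction y using TensorProduct.induction_on with
      | zero => simp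
      | tmul p q => simp
      | add p q hp hq => simp [mul_add, hp, hq]
    rw [this, map_mul, tw_tw', tw_tmul_one, mul_comm, slice_mul_left, mul_comm]
    rfl
  rw [this]
  exact hf

/-- Near the augmentation point a finitely generated Hopf submodule has no relation between
minimal generators, up to a power of an element not killed by the counit. -/
lemma exists_bounded_relations {n : ℕ} (g : Fin n → M) (b₀ : B)
    (hb₀ : ∀ m : M, b₀ • m ∈ LinearMap.range (Fintype.linearCombination B g))
    (P0 : Fin n → (A →ₗ[k] k))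
    (hP0 : ∀ (l : Fin n) (b : B) (m : M), P0 l ((b : A) * (m : A)) =
      CoalgebraStruct.counit (R := k) (b : A) * P0 l (m : A))
    (hg : ∀ l i, P0 l (g i : A) = if l = i then 1 else 0) :
    ∀ r : Fin n → B, Fintype.linearCombination B g r = 0 → b₀ ^ n • r = 0 := by
  classical
  let L : (Fin n → B) →ₗ[B] M := Fintype.linearCombination B g
  let lsl : (A →ₗ[k] k) → (A ⊗[k] A →ₗ[k] A) := fun f =>
    (TensorProduct.lid k A).toLinearMap ∘ₗ f.rTensor A
  let c : A → Fin n → A := fun m l => lsl (P0 l) (CoalgebraStruct.comul (R := k) m)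
  have hc_add : ∀ x y, c (x + y) = c x + c y := fun x y => by ext l; simp [c]
  have hc_mul : ∀ (b : B) (m : M), c ((b : A) * m) = (b : A) • c (m : A) := by
    intro b m
    ext l
    have key : ∀ β ∈ tensorRight A B.toSubmodule, ∀ w ∈ tensorRight A (M.restrictScalars k),
        lsl (P0 l) (β * w) =
          lsl (CoalgebraStruct.counit (R := k) (A := A)) β * lsl (P0 l) w := by
      rintro β ⟨β, rfl⟩ w ⟨w, rfl⟩
      induction β using TensorProduct.induction_on with
      | zero => simp
      | tmul x z =>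
          induction w using TensorProduct.induction_on with
          | zero => simp
          | tmul q r =>
              have h' : P0 l ((x : A) * (q : A)) =
                  CoalgebraStruct.counit (R := k) (x : A) * P0 l (q : A) :=
                hP0 l ⟨x.1, x.2⟩ ⟨q.1, q.2⟩
              simp only [lsl, LinearMap.comp_apply, LinearMap.rTensor_tmul, Submodule.coe_subtype,
                Algebra.TensorProduct.tmul_mul_tmul, LinearEquiv.coe_coe, TensorProduct.lid_tmul]
              rw [h', smul_mul_smul_comm]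
          | add q r hq hr => simp only [map_add, mul_add, hq, hr]
      | add q r hq hr => simp only [map_add, add_mul, hq, hr]
    show lsl (P0 l) (CoalgebraStruct.comul (R := k) ((b : A) * (m : A))) = _
    rw [Bialgebra.comul_mul, key _ (comul_mem_right hB b.2) _ (hM m m.2)]
    congr 1
    simp [lsl]
  let C : Matrix (Fin n) (Fin n) A := fun l i => c (g i : A) l
  have hcL : ∀ r : Fin n → B, c (L r : A) = C.mulVec fun i => (r i : A) := by
    intro r
    let cM : M →+ (Fin n → A) := AddMonoidHom.mk' (fun m => c (m : A)) fun x y => hc_add _ _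
    show cM (L r) = _
    ext l
    rw [Fintype.linearCombination_apply, map_sum, Finset.sum_apply, Matrix.mulVec, dotProduct]
    refine Finset.sum_congr rfl fun i _ => ?_
    show c ((r i : A) * (g i : A)) l = _
    rw [hc_mul]
    simp [C, mul_comm]
  have hspan : ∀ l, (Pi.single l (b₀ : A) : Fin n → A) ∈ LinearMap.range (Matrix.mulVecLin C) := by
    intro l
    have key : ∀ w ∈ tensorRight A (M.restrictScalars k),
        (b₀ : A) • (fun l' => lsl (P0 l') (tw w)) ∈ LinearMap.range (Matrix.mulVecLin C) := by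
      rintro w ⟨w, rfl⟩
      induction w using TensorProduct.induction_on with
      | zero => simp [← Pi.zero_def]
      | tmul q a =>
          have hmul : ∀ (f : A →ₗ[k] k) (y : A ⊗[k] A),
              lsl f (y * ((1 : A) ⊗ₜ[k] a)) = lsl f y * a := by
            intro f y
            induction y using TensorProduct.induction_on with
            | zero => simp
            | tmul x z => simp [lsl]
            | add x z hx hz => simp [add_mul, hx, hz]
          obtain ⟨r, hr⟩ := hb₀ ⟨q.1, q.2⟩
          refine ⟨a • fun i => (r i : A), ?_⟩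
          rw [map_smul, Matrix.mulVecLin_apply, ← hcL, hr]
          ext l'
          show a * c ((b₀ : A) * (q : A)) l' = (b₀ : A) * lsl (P0 l') (tw ((q : A) ⊗ₜ[k] a))
          rw [hc_mul b₀ ⟨q.1, q.2⟩, tw_tmul, hmul]
          simp [c, mul_comm, mul_left_comm]
      | add q r hq hr =>
          simp only [map_add]
          convert add_mem hq hr using 1
          ext l'
          simp [mul_add]
    have h := key (tw' ((g l : A) ⊗ₜ[k] (1 : A))) (tw'_mem hM (g l).2 1)
    convert h using 1
    ext l'
    simp only [Pi.smul_apply, smul_eq_mul, tw_tw', lsl, LinearMap.comp_apply,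
      LinearMap.rTensor_tmul, LinearEquiv.coe_coe, TensorProduct.lid_tmul, hg]
    by_cases hl : l' = l
    · subst hl; simp
    · simp [hl]
  choose D hD using hspan
  have hCD : C * Matrix.of (fun i l => D l i) = (b₀ : A) • (1 : Matrix (Fin n) (Fin n) A) := by
    ext l' l
    have h := congrFun (hD l) l'
    rw [Matrix.mulVecLin_apply] at h
    rw [Matrix.smul_apply, Matrix.one_apply, smul_eq_mul, mul_ite, mul_one, mul_zero]
    rw [Pi.single_apply] at h
    exact h
  have hker : ∀ r : Fin n → B, L r = 0 → b₀ ^ n • r = 0 := by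
    intro r hr
    have h0 : C.mulVec (fun i => (r i : A)) = 0 := by
      rw [← hcL, hr]
      ext l
      simp [c]
    have hdet : C.det * (Matrix.of fun i l => D l i).det = (b₀ : A) ^ n := by
      rw [← Matrix.det_mul, hCD, Matrix.det_smul, Matrix.det_one, Fintype.card_fin, mul_one]
    have h2 := congrArg (C.adjugate.mulVec) h0
    rw [Matrix.mulVec_mulVec, Matrix.adjugate_mul, Matrix.smul_mulVec, Matrix.one_mulVec,
      Matrix.mulVec_zero] at h2
    ext i
    have h3 := congrFun h2 i
    simp only [Pi.smul_apply, Pi.zero_apply, smul_eq_mul] at h3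
    simp only [Pi.smul_apply, smul_eq_mul, Subalgebra.coe_mul, Subalgebra.coe_pow, Pi.zero_apply,
      Subalgebra.coe_zero]
    rw [← hdet, mul_right_comm, h3, zero_mul]
  exact hker

omit hB hM in
/-- Minimal generators at the augmentation point. -/
lemma exists_generators (hfg : M.FG) :
    ∃ (n : ℕ) (g : Fin n → M) (b₀ : B) (P0 : Fin n → (A →ₗ[k] k)),
      CoalgebraStruct.counit (R := k) (b₀ : A) ≠ 0 ∧
      (∀ m : M, b₀ • m ∈ LinearMap.range (Fintype.linearCombination B g)) ∧
      (∀ (l : Fin n) (b : B) (m : M), P0 l ((b : A) * (m : A)) =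
        CoalgebraStruct.counit (R := k) (b : A) * P0 l (m : A)) ∧
      ∀ l i, P0 l (g i : A) = if l = i then 1 else 0 := by
  have : Module.Finite B M := Module.Finite.iff_fg.2 hfg
  obtain ⟨n, g, b₀, f, hb₀, hgen, hf, hg⟩ :=
    Minimal.exists_minimal_generators ((Bialgebra.counitAlgHom k A).comp B.val) (M := M)
  have hP0 : ∀ l, ∃ P0 : A →ₗ[k] k, ∀ m : M, P0 (m : A) = f l m := fun l => by
    obtain ⟨P0, hP0⟩ := LinearMap.exists_extend (p := M.restrictScalars k) (f l)
    exact ⟨P0, fun m => LinearMap.congr_fun hP0 m⟩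
  choose P0 hP0 using hP0
  refine ⟨n, g, b₀, P0, hb₀, hgen, fun l b m => ?_, fun l i => ?_⟩
  · rw [hP0 l m]
    exact (hP0 l (b • m)).trans (hf l b m)
  · rw [hP0, hg]

/-- Near the augmentation point a finitely generated Hopf submodule is free: data. -/
lemma exists_local_data (h1 : (1 : A) ∈ M) (hfg : M.FG) :
    ∃ b : B, CoalgebraStruct.counit (R := k) (b : A) ≠ 0 ∧
      b • LinearMap.id ∈ LinearMap.range (dualTensorHom B M M) ∧
      ∃ φ : M →ₗ[B] B, CoalgebraStruct.counit (R := k) ((φ ⟨1, h1⟩ : B) : A) ≠ 0 := by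
  classical
  let εB : B →ₐ[k] k := (Bialgebra.counitAlgHom k A).comp B.val
  obtain ⟨n, g, b₀, P0, hb₀p, hb₀, hP0, hg⟩ := exists_generators (M := M) hfg
  replace hb₀p : εB b₀ ≠ 0 := hb₀p
  let L : (Fin n → B) →ₗ[B] M := Fintype.linearCombination B g
  have hker : ∀ r : Fin n → B, L r = 0 → b₀ ^ n • r = 0 :=
    exists_bounded_relations hB hM g b₀ hb₀ P0 hP0 hg
  let u : M →ₗ[B] (Fin n → B) :=
    (LinearMap.ker L).liftQ (b₀ ^ n • LinearMap.id) (fun r hr => by simpa using hker r hr) ∘ₗ
      (L.quotKerEquivRange).symm.toLinearMap ∘ₗ (b₀ • LinearMap.id).codRestrict _ hb₀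
  have hu : ∀ (m : M) (r : Fin n → B), L r = b₀ • m → u m = b₀ ^ n • r := by
    intro m r hr
    have : (b₀ • LinearMap.id : M →ₗ[B] M).codRestrict _ hb₀ m =
        L.quotKerEquivRange (Submodule.Quotient.mk r) := by
      apply Subtype.ext
      rw [LinearMap.quotKerEquivRange_apply_mk, hr]
      rfl
    simp [u, this]
  refine ⟨b₀ ^ n * b₀, ?_, ?_, ?_⟩
  · show εB (b₀ ^ n * b₀) ≠ 0
    rw [map_mul, map_pow]
    exact mul_ne_zero (pow_ne_zero _ hb₀p) hb₀p
  · refine ⟨∑ i, (LinearMap.proj i ∘ₗ u) ⊗ₜ[B] g i, LinearMap.ext fun m => ?_⟩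
    obtain ⟨r, hr⟩ := hb₀ m
    simp [hu m r hr, dualTensorHom_apply, mul_smul, ← hr, Fintype.linearCombination_apply,
      Finset.smul_sum]
  · obtain ⟨r, hr⟩ := hb₀ ⟨1, h1⟩
    obtain ⟨i, hi⟩ : ∃ i, εB (r i) ≠ 0 := by
      by_contra! h
      apply hb₀p
      have h2 : (b₀ : A) = ∑ i, (r i : A) * (g i : A) := by
        have := congrArg Subtype.val hr
        simpa [L, Fintype.linearCombination_apply, Subalgebra.smul_def] using this.symm
      show CoalgebraStruct.counit (R := k) (b₀ : A) = 0
      rw [h2, map_sum]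
      refine Finset.sum_eq_zero fun i _ => ?_
      rw [Bialgebra.counit_mul]
      exact mul_eq_zero_of_left (h i) _
    refine ⟨LinearMap.proj i ∘ₗ u, ?_⟩
    rw [LinearMap.comp_apply, hu _ r hr]
    show εB (b₀ ^ n * r i) ≠ 0
    rw [map_mul, map_pow]
    exact mul_ne_zero (pow_ne_zero _ hb₀p) hi

lemma projective_of_fg (h1 : (1 : A) ∈ M) (hfg : M.FG) :
    Module.Projective B M ∧ ∃ φ : M →ₗ[B] B, φ ⟨1, h1⟩ = 1 := by
  obtain ⟨b, hε, hb, φ, hφ⟩ := exists_local_data hB hM h1 hfg
  constructor
  · let J : Ideal B := (LinearMap.range (dualTensorHom B M M)).comap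
      ((LinearMap.id (R := B) (M := B)).smulRight (LinearMap.id (R := B) (M := M)))
    have hJ : J = ⊤ := ideal_eq_top hB J (fun c hc χ => traceIdeal_stable hB hM c hc χ) hb hε
    obtain ⟨t, ht⟩ : (1 : B) • LinearMap.id ∈ LinearMap.range (dualTensorHom B M M) :=
      (Ideal.eq_top_iff_one J).1 hJ
    rw [one_smul] at ht
    obtain ⟨ι, hι⟩ := TensorProduct.exists_finset (R := B) t
    let i : M →ₗ[B] (ι → B) := LinearMap.pi fun j => j.1.1
    let s : (ι → B) →ₗ[B] M := Fintype.linearCombination B fun j => j.1.2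
    refine Module.Projective.of_split i s (LinearMap.ext fun m => ?_)
    rw [← ht, hι]
    simp only [i, s, LinearMap.comp_apply, Fintype.linearCombination_apply, LinearMap.pi_apply,
      map_sum, LinearMap.sum_apply, dualTensorHom_apply]
    exact Finset.sum_coe_sort ι fun j => j.1 m • j.2
  · have h := ideal_eq_top hB _ (fun c hc χ => evalIdeal_stable hB hM h1 c hc χ) ⟨φ, rfl⟩ hφ
    obtain ⟨ψ, hψ⟩ := (Ideal.eq_top_iff_one _).1 h
    exact ⟨ψ, hψ⟩

end

include hB in
/-- Every finite set lies in a finitely generated Hopf submodule containing `1`. -/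
lemma exists_hopfSubmodule (s : Finset A) :
    ∃ M : Submodule B A, (1 : A) ∈ M ∧ (s : Set A) ⊆ M ∧ M.FG ∧
      ∀ m ∈ M, CoalgebraStruct.comul (R := k) m ∈ tensorRight A (M.restrictScalars k) := by
  classical
  obtain ⟨W, hW, hsW, hfg⟩ := exists_fg_subcomod (R := k) (C := A) (V := A)
    (Submodule.span k ((insert 1 s : Finset A) : Set A)) ⟨_, rfl⟩
  obtain ⟨t, ht⟩ := hfg
  refine ⟨Submodule.span B (t : Set A), ?_, ?_, ⟨t, rfl⟩, ?_⟩
  · have : (1 : A) ∈ Submodule.span k (t : Set A) :=
      ht ▸ hsW (Submodule.subset_span (by simp))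
    exact Submodule.span_le_restrictScalars k B _ this
  · intro x hx
    have : x ∈ Submodule.span k (t : Set A) :=
      ht ▸ hsW (Submodule.subset_span (Finset.mem_coe.2 (Finset.mem_insert_of_mem hx)))
    exact Submodule.span_le_restrictScalars k B _ this
  · intro m hm
    induction hm using Submodule.span_induction with
    | mem x hx =>
        refine tensorRight_mono ?_ (hW x (ht ▸ Submodule.subset_span hx))
        rw [← ht]
        exact Submodule.span_le_restrictScalars k B _
    | zero => simp
    | add x y _ _ hx hy => rw [map_add]; exact add_mem hx hy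
    | smul b x _ hx =>
        rw [Subalgebra.smul_def, smul_eq_mul, Bialgebra.comul_mul]
        exact mul_mem_tensorRight (fun p hp q hq => Submodule.smul_mem _ (⟨p, hp⟩ : B) hq)
          (comul_mem_right hB b.2) hx

include hB in
/-- A commutative Hopf algebra over a field is faithfully flat over each Hopf subalgebra. -/
theorem faithfullyFlat : Module.FaithfullyFlat B A := by
  classical
  have : Module.Flat B A := by
    refine Module.Flat.of_forall_isTrivialRelation fun {l f x} hfx => ?_
    obtain ⟨M, h1, hxM, hfg, hM⟩ := exists_hopfSubmodule hB (Finset.univ.image x)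
    have : Module.Projective B M := (projective_of_fg hB hM h1 hfg).1
    let x' : Fin l → M := fun i => ⟨x i, hxM (by simp)⟩
    obtain ⟨κ, a, y, h, h'⟩ :=
      Module.Flat.isTrivialRelation_of_sum_smul_eq_zero (f := f) (x := x')
        (Subtype.ext (by simpa [x'] using hfx))
    exact ⟨κ, a, fun j => (y j : A), fun i => by
      simpa [x'] using congrArg Subtype.val (h i), h'⟩
  refine ⟨fun {m} hm h => ?_⟩
  have h1 : (1 : A) ∈ m • (⊤ : Submodule B A) := by rw [h]; exact Submodule.mem_top
  obtain ⟨s, hs⟩ : ∃ s : Finset A, (1 : A) ∈ m • Submodule.span B (s : Set A) := by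
    generalize (1 : A) = z at h1 ⊢
    induction h1 using Submodule.smul_induction_on' with
    | smul r hr x _ =>
        exact ⟨{x}, Submodule.smul_mem_smul hr (Submodule.subset_span (by simp))⟩
    | add x hx y hy ihx ihy =>
        obtain ⟨s, hs⟩ := ihx
        obtain ⟨t, ht⟩ := ihy
        refine ⟨s ∪ t, add_mem (smul_mono_right _ (Submodule.span_mono (by simp)) hs)
          (smul_mono_right _ (Submodule.span_mono (by simp)) ht)⟩
  obtain ⟨M, hone, hsM, hfg, hM⟩ := exists_hopfSubmodule hB s
  obtain ⟨φ, hφ⟩ := (projective_of_fg hB hM hone hfg).2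
  have h2 : (1 : A) ∈ m • M := smul_mono_right _ (Submodule.span_le.2 hsM) hs
  rw [← Submodule.map_subtype_top M, ← Submodule.map_smul''] at h2
  obtain ⟨y, hy, hy'⟩ := h2
  have h3 : φ y ∈ m := by
    have := Submodule.mem_map_of_mem (f := φ) hy
    rw [Submodule.map_smul''] at this
    exact Submodule.smul_le.2 (fun r hr n _ => Ideal.mul_mem_right n m hr) this
  rw [show y = ⟨1, hone⟩ from Subtype.ext hy', hφ] at h3
  exact hm.ne_top ((Ideal.eq_top_iff_one m).2 h3)

end Groth.Agent.Lib.Hopf.FaithfullyFlat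

namespace Groth.Agent.Lib.Hopf.FaithfullyFlat

open TensorProduct

universe w w'

/-- An element with equal images in `A ⊗[B] A` of a faithfully flat algebra comes from the base. -/
lemma mem_range_of_tmul_one_eq {B : Type w} {A : Type w'} [CommRing B] [CommRing A] [Algebra B A]
    [Module.FaithfullyFlat B A] {a : A} (h : a ⊗ₜ[B] (1 : A) = (1 : A) ⊗ₜ[B] a) :
    a ∈ Set.range (algebraMap B A) := by
  let q := (LinearMap.range (Algebra.linearMap B A)).mkQ
  have h2 : (1 : A) ⊗ₜ[B] q a = 0 := by
    rw [← LinearMap.lTensor_tmul A q, ← h, LinearMap.lTensor_tmul,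
      show q (1 : A) = 0 from (Submodule.Quotient.mk_eq_zero _).2 ⟨1, by simp⟩, tmul_zero]
  have h3 : q a = 0 := (Module.FaithfullyFlat.one_tmul_eq_zero_iff B _ (q a)).1 h2
  obtain ⟨b, hb⟩ := (Submodule.Quotient.mk_eq_zero _).1 h3
  exact ⟨b, hb⟩

open WithConv in
/-- A map of bialgebras between Hopf algebras commutes with the antipodes. -/
lemma map_antipode {k : Type*} [CommRing k] {A' A : Type*} [CommRing A'] [CommRing A]
    [HopfAlgebra k A'] [HopfAlgebra k A] (φ : A' →ₐc[k] A) (x : A') :
    HopfAlgebraStruct.antipode (R := k) (φ x) = φ (HopfAlgebraStruct.antipode (R := k) x) := by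
  refine congrFun (congrArg (fun f : WithConv (A' →ₗ[k] A) => ⇑(WithConv.ofConv f)) (left_inv_eq_right_inv
    (b := toConv ((φ : A' →ₗ[k] A) ∘ₗ HopfAlgebraStruct.antipode (R := k)))
    (a := toConv (φ : A' →ₗ[k] A))
    (c := toConv (HopfAlgebraStruct.antipode (R := k) ∘ₗ (φ : A' →ₗ[k] A))) ?_ ?_).symm) x <;>
    ext c
  · rw [(Coalgebra.Repr.arbitrary k c).convMul_apply]
    simpa [map_sum, map_mul, AlgHomClass.commutes] using congrArg φ
      (HopfAlgebra.sum_antipode_mul_eq_algebraMap_counit (Coalgebra.Repr.arbitrary k c))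
  · rw [(Coalgebra.Repr.arbitrary k c).convMul_apply]
    simpa using HopfAlgebra.sum_mul_antipode_eq_algebraMap_counit
      ((Coalgebra.Repr.arbitrary k c).induced φ)

end Groth.Agent.Lib.Hopf.FaithfullyFlat
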