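import Groth.Prelude.Def_Dyn
import Groth.Prelude.Def_LieHopf
import Mathlib.RingTheory.HopfAlgebra.Convolution

/-!
The triple convolution `Dyn.conv3` in the convolution monoid of points, and tangent vectors in the convolution ring.
-/

universe u

open TensorProduct WithConv

namespace Groth.Agent.Lib.Hopf.Conv3

variable {k : Type u} [CommRing k] {A : Type u} [CommRing A] [HopfAlgebra k A]
  {R : Type u} [CommRing R] [Algebra k R]

theorem conv3_eq (f g h : A →ₐ[k] R) :
    toConv (Dyn.conv3 k A f g h) = toConv f * toConv g * toConv h := by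
  rw [AlgHom.convMul_def, AlgHom.convMul_def]
  simp only [ofConv_toConv]
  congr 1
  have e : ((Algebra.TensorProduct.map ((Algebra.TensorProduct.lmul' (S := R) k).comp
        (Algebra.TensorProduct.map f g)) h).comp
      (Algebra.TensorProduct.map (Bialgebra.comulAlgHom k A) (AlgHom.id k A))) =
      Algebra.TensorProduct.map ((Algebra.TensorProduct.lmul' k).comp
        ((Algebra.TensorProduct.map f g).comp (Bialgebra.comulAlgHom k A))) h := by
    ext a <;> simp
  rw [Dyn.conv3, ← e]
  rfl

theorem conv3_one (f g : A →ₐ[k] R) :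
    toConv (Dyn.conv3 k A f g ((Algebra.ofId k R).comp (Bialgebra.counitAlgHom k A))) =
      toConv f * toConv g := by
  rw [conv3_eq, ← AlgHom.convOne_def, mul_one]

/-- A linear map to `k`, seen in the convolution ring of `R`. -/
noncomputable def push (D : A →ₗ[k] k) : WithConv (A →ₗ[k] R) :=
  toConv (Algebra.linearMap k R ∘ₗ D)

theorem push_mul_push (D E : A →ₗ[k] k) :
    push (R := R) D * push E = push (LieHopf.conv D E) := by
  have h := LinearMap.algHom_comp_convMul_distrib (Algebra.ofId k R) (toConv D) (toConv E)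
  rw [show (toConv D * toConv E : WithConv (A →ₗ[k] k)).ofConv = LieHopf.conv D E from rfl] at h
  exact (congrArg toConv h).symm

theorem lin_ptOfLie (D : LieHopf.Lie k A) (t : R) (ht : t * t = 0) :
    toConv (LieHopf.ptOfLie D R t ht).toLinearMap = 1 + t • push (LieHopf.dlin D) := by
  apply WithConv.ofConv_injective
  ext a
  show algebraMap k R (Bialgebra.counitAlgHom k A a) + algebraMap k R (LieHopf.dlin D a) * t =
    algebraMap k R (Coalgebra.counit a) + t * algebraMap k R (LieHopf.dlin D a)
  rw [mul_comm t]
  rfl

theorem smul_push_sq (D : LieHopf.Lie k A) (t : R) (ht : t * t = 0) :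
    (t • push (LieHopf.dlin D)) * (t • push (R := R) (LieHopf.dlin D)) = 0 := by
  rw [smul_mul_smul_comm, ht, zero_smul]

theorem lin_ptOfLie_inv (D : LieHopf.Lie k A) (t : R) (ht : t * t = 0) :
    toConv ((LieHopf.ptOfLie D R t ht).comp (HopfAlgebra.antipodeAlgHom k A)).toLinearMap =
      1 - t • push (LieHopf.dlin D) := by
  let x := LieHopf.ptOfLie D R t ht
  have h1 : toConv x.toLinearMap *
      toConv (x.comp (HopfAlgebra.antipodeAlgHom k A)).toLinearMap = 1 := by
    have h := LinearMap.algHom_comp_convMul_distrib x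
      (toConv (LinearMap.id : A →ₗ[k] A)) (toConv (HopfAlgebra.antipode k (A := A)))
    rw [LinearMap.id_mul_antipode] at h
    refine WithConv.ofConv_injective (h.symm.trans ?_)
    ext c
    exact x.commutes _
  rw [lin_ptOfLie] at h1
  calc _ = (1 - t • push (LieHopf.dlin D)) * ((1 + t • push (LieHopf.dlin D)) *
        toConv ((LieHopf.ptOfLie D R t ht).comp (HopfAlgebra.antipodeAlgHom k A)).toLinearMap) := by
        rw [← mul_assoc, sub_mul, one_mul, mul_add, mul_one, smul_push_sq D t ht]
        simp
    _ = _ := by rw [h1, mul_one]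

end Groth.Agent.Lib.Hopf.Conv3
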