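import Groth.Agent.Lib.Hopf.ComodRing
import Mathlib.RingTheory.Jacobson.Ring
import Mathlib.FieldTheory.IsAlgClosed.Basic
import Mathlib.RingTheory.FiniteType
import Mathlib.LinearAlgebra.Dimension.Free

/-!
Rational points of finitely generated algebras over an algebraically closed field.
-/

open TensorProduct

namespace Groth.Agent.Lib.Hopf.Points

universe u v w

open Groth.Agent.Lib.Hopf.ComodRing

variable {k : Type u} [Field k] [IsAlgClosed k] {A : Type v} [CommRing A] [Algebra k A]
  [Algebra.FiniteType k A]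

lemma exists_point_of_isMaximal (m : Ideal A) [m.IsMaximal] :
    ∃ g : A →ₐ[k] k, RingHom.ker g = m := by
  let := Ideal.Quotient.field m
  have : Module.Finite k (A ⧸ m) := finite_of_finite_type_of_isJacobsonRing k (A ⧸ m)
  have : Algebra.IsIntegral k (A ⧸ m) := Algebra.IsIntegral.of_finite k _
  have hb := IsAlgClosed.algebraMap_bijective_of_isIntegral (k := k) (K := A ⧸ m)
  let e : k ≃ₐ[k] A ⧸ m := AlgEquiv.ofBijective (Algebra.ofId k _) hb
  refine ⟨e.symm.toAlgHom.comp (Ideal.Quotient.mkₐ k m), ?_⟩
  ext a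
  simp [RingHom.mem_ker, Ideal.Quotient.eq_zero_iff_mem]

lemma eq_zero_of_forall_point_eq_zero [IsReduced A] {a : A} (h : ∀ g : A →ₐ[k] k, g a = 0) :
    a = 0 := by
  have : IsJacobsonRing A := isJacobsonRing_of_finiteType (A := k)
  have h1 : a ∈ Ideal.jacobson (⊥ : Ideal A) := by
    refine Ideal.mem_sInf.2 fun m hm => ?_
    have : m.IsMaximal := hm.2
    obtain ⟨g, hg⟩ := exists_point_of_isMaximal (k := k) m
    rw [← hg]
    exact h g
  rwa [IsJacobsonRing.out inferInstance, Ideal.mem_bot] at h1
  exact Ideal.isRadical_bot_iff.2 inferInstance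

lemma mem_tensorRight_of_points [IsReduced A] {V : Type w} [AddCommGroup V] [Module k V]
    {E : Submodule k V} {x : V ⊗[k] A} (h : ∀ g : A →ₐ[k] k, slice g.toLinearMap x ∈ E) :
    x ∈ tensorRight A E := by
  rw [mem_tensorRight_iff]
  generalize hy : E.mkQ.rTensor A x = y
  have hy' : ∀ g : A →ₐ[k] k, slice g.toLinearMap y = 0 := fun g => by
    rw [← hy, slice_rTensor, Submodule.mkQ_apply, Submodule.Quotient.mk_eq_zero]
    exact h g
  let b := Module.Free.chooseBasis k (V ⧸ E)
  apply (TensorProduct.equivFinsuppOfBasisLeft b).injective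
  rw [map_zero]
  ext i
  refine eq_zero_of_forall_point_eq_zero (k := k) fun g => ?_
  have key : ∀ z : (V ⧸ E) ⊗[k] A,
      g (TensorProduct.equivFinsuppOfBasisLeft b z i) = b.coord i (slice g.toLinearMap z) := by
    intro z
    induction z using TensorProduct.induction_on with
    | zero => simp
    | tmul q a => simp [mul_comm]
    | add p q hp hq => simp [hp, hq]
  rw [key, hy', map_zero]

end Groth.Agent.Lib.Hopf.Points
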