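import Groth.Agent.Lib.Hopf.ComodRing
import Groth.Prelude.Def_SGA3
import Mathlib.RingTheory.HopfAlgebra.Quotient
import Mathlib.RingTheory.HopfAlgebra.Convolution

/-!
The irreducible component of `1` in a commutative cocommutative Hopf algebra over a field, given by
the filtration `F 0 = k`, `F (n+1) = {a | Δ a - a ⊗ 1 ∈ F n ⊗ A}`.
-/

open TensorProduct

namespace Groth.Agent.Lib.Hopf.Irred

universe u v

open Groth.Agent.Lib.Hopf.ComodRing HopfRep

section Bialgebra

variable (k : Type u) [Field k] (A : Type v) [CommRing A] [Bialgebra k A]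

/-- `a ↦ Δ a - a ⊗ 1`. -/
noncomputable def red : A →ₗ[k] A ⊗[k] A :=
  CoalgebraStruct.comul - (TensorProduct.mk k A A).flip 1

/-- The filtration. -/
noncomputable def F : ℕ → Submodule k A
  | 0 => Submodule.span k {1}
  | n + 1 => (tensorRight A (F n)).comap (red k A)

variable {k A}

lemma red_apply (a : A) : red k A a = CoalgebraStruct.comul a - a ⊗ₜ[k] (1 : A) := rfl

lemma mem_succ {n : ℕ} {a : A} :
    a ∈ F k A (n + 1) ↔ CoalgebraStruct.comul a - a ⊗ₜ[k] (1 : A) ∈ tensorRight A (F k A n) :=
  Iff.rfl

lemma comul_smul_one (c : k) :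
    CoalgebraStruct.comul (R := k) (c • (1 : A)) = (c • (1 : A)) ⊗ₜ[k] (1 : A) := by
  rw [map_smul, Bialgebra.comul_one, Algebra.TensorProduct.one_def, TensorProduct.smul_tmul']

lemma F_le_succ : ∀ n, F k A n ≤ F k A (n + 1)
  | 0 => fun a ha => by
      obtain ⟨c, rfl⟩ := Submodule.mem_span_singleton.1 ha
      rw [mem_succ, comul_smul_one, sub_self]
      exact zero_mem _
  | n + 1 => fun a ha => mem_succ.2 (tensorRight_mono (F_le_succ n) (mem_succ.1 ha))

lemma F_mono : Monotone (F k A) := monotone_nat_of_le_succ F_le_succ

lemma one_mem (n : ℕ) : (1 : A) ∈ F k A n :=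
  F_mono (Nat.zero_le n) (Submodule.mem_span_singleton_self _)

lemma comul_mem : ∀ {n : ℕ} {a : A}, a ∈ F k A n →
    CoalgebraStruct.comul (R := k) a ∈ tensorRight A (F k A n)
  | 0, a, ha => by
      obtain ⟨c, rfl⟩ := Submodule.mem_span_singleton.1 ha
      rw [comul_smul_one]
      exact tmul_mem_tensorRight (Submodule.smul_mem _ _ (one_mem 0)) 1
  | n + 1, a, ha => by
      have := add_mem (tensorRight_mono (F_le_succ n) (mem_succ.1 ha))
        (tmul_mem_tensorRight ha (1 : A))
      rwa [sub_add_cancel] at this

lemma mul_mem_tensorRight {U U' W : Submodule k A} (h : ∀ a ∈ U, ∀ b ∈ U', a * b ∈ W)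
    {x y : A ⊗[k] A} (hx : x ∈ tensorRight A U) (hy : y ∈ tensorRight A U') :
    x * y ∈ tensorRight A W := by
  obtain ⟨p, rfl⟩ := hx
  obtain ⟨q, rfl⟩ := hy
  induction p using TensorProduct.induction_on with
  | zero => simp
  | tmul a c =>
      induction q using TensorProduct.induction_on with
      | zero => simp
      | tmul b d =>
          simpa using tmul_mem_tensorRight (h a a.2 b b.2) (c * d)
      | add q q' hq hq' => rw [map_add, mul_add]; exact add_mem hq hq'
  | add p p' hp hp' => rw [map_add, add_mul]; exact add_mem hp hp'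

lemma mul_mem_aux : ∀ (N n m : ℕ), n + m ≤ N → ∀ a ∈ F k A n, ∀ b ∈ F k A m, a * b ∈ F k A N := by
  intro N
  induction N with
  | zero =>
      intro n m hnm a ha b hb
      obtain ⟨rfl, rfl⟩ : n = 0 ∧ m = 0 := by omega
      obtain ⟨c, rfl⟩ := Submodule.mem_span_singleton.1 ha
      rw [smul_mul_assoc, one_mul]
      exact Submodule.smul_mem _ _ hb
  | succ N ih =>
      intro n m hnm a ha b hb
      rcases n with _ | n
      · obtain ⟨c, rfl⟩ := Submodule.mem_span_singleton.1 ha
        rw [smul_mul_assoc, one_mul]
        exact Submodule.smul_mem _ _ (F_mono (by omega) hb)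
      rcases m with _ | m
      · obtain ⟨c, rfl⟩ := Submodule.mem_span_singleton.1 hb
        rw [mul_smul_comm, mul_one]
        exact Submodule.smul_mem _ _ (F_mono (by omega) ha)
      rw [mem_succ]
      set x := CoalgebraStruct.comul a - a ⊗ₜ[k] (1 : A) with hx
      set y := CoalgebraStruct.comul b - b ⊗ₜ[k] (1 : A) with hy
      have e : CoalgebraStruct.comul (a * b) - (a * b) ⊗ₜ[k] (1 : A) =
          x * CoalgebraStruct.comul b + (a ⊗ₜ[k] (1 : A)) * y := by
        rw [hx, hy, Bialgebra.comul_mul, sub_mul, mul_sub, Algebra.TensorProduct.tmul_mul_tmul,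
          one_mul]
        abel
      rw [e]
      exact add_mem
        (mul_mem_tensorRight (ih n (m + 1) (by omega)) (mem_succ.1 ha) (comul_mem hb))
        (mul_mem_tensorRight (ih (n + 1) m (by omega)) (tmul_mem_tensorRight ha 1) (mem_succ.1 hb))

variable (k A) in
/-- The union of the filtration. -/
noncomputable def irred : Subalgebra k A where
  carrier := {a | ∃ n, a ∈ F k A n}
  mul_mem' := by
    rintro a b ⟨n, ha⟩ ⟨m, hb⟩
    exact ⟨n + m, mul_mem_aux _ n m le_rfl a ha b hb⟩
  add_mem' := by
    rintro a b ⟨n, ha⟩ ⟨m, hb⟩
    exact ⟨max n m, add_mem (F_mono (le_max_left n m) ha) (F_mono (le_max_right n m) hb)⟩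
  algebraMap_mem' c := ⟨0, Submodule.mem_span_singleton.2 ⟨c, (Algebra.algebraMap_eq_smul_one c).symm⟩⟩

lemma mem_irred {a : A} : a ∈ irred k A ↔ ∃ n, a ∈ F k A n := Iff.rfl

end Bialgebra

/-- An element lying in `U ⊗ V` and in `V ⊗ U` lies in `U ⊗ U`. -/
lemma mem_range_map_subtype {k : Type u} [Field k] {V : Type v} [AddCommGroup V] [Module k V]
    {U : Submodule k V} {x : V ⊗[k] V} (h1 : x ∈ tensorRight V U)
    (h2 : TensorProduct.comm k V V x ∈ tensorRight V U) :
    x ∈ LinearMap.range (TensorProduct.map U.subtype U.subtype) := by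
  obtain ⟨p, hp⟩ := U.subtype.exists_leftInverse_of_injective U.ker_subtype
  let e := U.subtype ∘ₗ p
  have he : ∀ y, y ∈ tensorRight V U → e.rTensor V y = y := by
    rintro _ ⟨y, rfl⟩
    rw [← LinearMap.comp_apply, ← LinearMap.rTensor_comp]
    simp only [e, LinearMap.comp_assoc, hp, LinearMap.comp_id]
  refine ⟨TensorProduct.map p p x, ?_⟩
  have hm : TensorProduct.map U.subtype U.subtype (TensorProduct.map p p x) =
      e.lTensor V (e.rTensor V x) := by
    rw [← LinearMap.comp_apply, ← TensorProduct.map_comp, ← LinearMap.comp_apply (e.lTensor V),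
      LinearMap.lTensor_comp_rTensor]
  rw [hm, he x h1]
  apply (TensorProduct.comm k V V).injective
  have hc : TensorProduct.comm k V V (e.lTensor V x) =
      e.rTensor V (TensorProduct.comm k V V x) := by
    clear hm h1 h2
    induction x using TensorProduct.induction_on with
    | zero => simp
    | tmul a b => simp
    | add a b ha hb => simp [ha, hb]
  rw [hc, he _ h2]

section Hopf

variable {k : Type u} [Field k] {A : Type u} [CommRing A] [HopfAlgebra k A] [Coalgebra.IsCocomm k A]

lemma comul_mem_map {n : ℕ} {a : A} (ha : a ∈ F k A n) :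
    CoalgebraStruct.comul (R := k) a ∈
      LinearMap.range (TensorProduct.map (F k A n).subtype (F k A n).subtype) :=
  mem_range_map_subtype (comul_mem ha) (by
    rw [Coalgebra.comm_comul]
    exact comul_mem ha)

lemma antipode_mem : ∀ {n : ℕ} {a : A}, a ∈ F k A n →
    HopfAlgebraStruct.antipode (R := k) a ∈ irred k A
  | 0, a, ha => by
      obtain ⟨c, rfl⟩ := Submodule.mem_span_singleton.1 ha
      rw [map_smul, HopfAlgebra.antipode_one]
      exact (irred k A).smul_mem (irred k A).one_mem c
  | n + 1, a, ha => by
      let U := F k A (n + 1)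
      obtain ⟨p, hp⟩ := (F k A n).subtype.exists_leftInverse_of_injective (F k A n).ker_subtype
      set y := CoalgebraStruct.comul a - a ⊗ₜ[k] (1 : A) with hy
      have hy1 : y ∈ tensorRight A (F k A n) := mem_succ.1 ha
      have hy2 : TensorProduct.comm k A A y ∈ tensorRight A U := by
        rw [hy, map_sub, Coalgebra.comm_comul, TensorProduct.comm_tmul]
        exact sub_mem (comul_mem ha) (tmul_mem_tensorRight (one_mem _) a)
      obtain ⟨q, hq⟩ := U.subtype.exists_leftInverse_of_injective U.ker_subtype
      let f := LinearMap.mul' k A ∘ₗ (HopfAlgebraStruct.antipode (R := k)).rTensor A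
      have h0 : f (CoalgebraStruct.comul a) = algebraMap k A (CoalgebraStruct.counit a) :=
        HopfAlgebra.mul_antipode_rTensor_comul_apply a
      have h1 : f (a ⊗ₜ[k] (1 : A)) = HopfAlgebraStruct.antipode (R := k) a := by simp [f]
      have h2 : f y ∈ irred k A := by
        have hyeq : TensorProduct.map ((F k A n).subtype ∘ₗ p) (U.subtype ∘ₗ q) y = y := by
          have e1 : ((F k A n).subtype ∘ₗ p).rTensor A y = y := by
            obtain ⟨z, hz⟩ := hy1
            rw [← hz, ← LinearMap.comp_apply, ← LinearMap.rTensor_comp, LinearMap.comp_assoc, hp,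
              LinearMap.comp_id]
          have e2 : (U.subtype ∘ₗ q).lTensor A y = y := by
            obtain ⟨z, hz⟩ := hy2
            have : y = TensorProduct.comm k A A (U.subtype.rTensor A z) := by
              rw [hz, TensorProduct.comm_comm]
            rw [this]
            clear this hz
            induction z using TensorProduct.induction_on with
            | zero => simp
            | tmul u v =>
                simp only [LinearMap.rTensor_tmul, TensorProduct.comm_tmul, LinearMap.lTensor_tmul,
                  LinearMap.comp_apply]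
                rw [show q (U.subtype u) = u from LinearMap.congr_fun hq u]
            | add z w hz hw => simp [hz, hw]
          rw [← LinearMap.lTensor_comp_rTensor, LinearMap.comp_apply, e1, e2]
        rw [← hyeq]
        clear hyeq hy hy1 hy2
        clear_value y
        induction y using TensorProduct.induction_on with
        | zero => simp
        | tmul u v =>
            simp only [f, TensorProduct.map_tmul, LinearMap.comp_apply, LinearMap.rTensor_tmul,
              LinearMap.mul'_apply]
            exact (irred k A).mul_mem (antipode_mem (p u).2) ⟨n + 1, (q v).2⟩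
        | add z w hz hw => rw [map_add, map_add]; exact (irred k A).add_mem hz hw
      have h3 : HopfAlgebraStruct.antipode (R := k) a =
          algebraMap k A (CoalgebraStruct.counit a) - f y := by
        rw [hy, map_sub, h0, h1]
        abel
      rw [h3]
      exact (irred k A).sub_mem ((irred k A).algebraMap_mem _) h2

lemma isHopfSubalgebra_irred : SGA3.IsHopfSubalgebra k A (irred k A) := by
  refine ⟨fun b hb => ?_, fun b hb => antipode_mem hb.choose_spec⟩
  obtain ⟨n, hn⟩ := hb
  obtain ⟨z, hz⟩ := comul_mem_map hn
  refine ⟨TensorProduct.map (LinearMap.codRestrict (Subalgebra.toSubmodule (irred k A))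
    (F k A n).subtype fun x => ⟨n, x.2⟩) (LinearMap.codRestrict
    (Subalgebra.toSubmodule (irred k A)) (F k A n).subtype fun x => ⟨n, x.2⟩) z, ?_⟩
  rw [← hz]
  clear hz
  induction z using TensorProduct.induction_on with
  | zero => simp
  | tmul a b => rfl
  | add a b ha hb => simp only [map_add, ha, hb]

end Hopf

/-- A bialgebra exhausted by a filtration starting with the scalars and with
`Δ b - b ⊗ 1 ∈ G n ⊗ B` on `G (n+1)` is unipotent. -/
lemma isUnipotent_of_filtration {k : Type u} [Field k] {B : Type v} [CommRing B] [Bialgebra k B]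
    (G : ℕ → Submodule k B) (h0 : G 0 ≤ Submodule.span k {1}) (hmono : Monotone G)
    (hall : ∀ b, ∃ n, b ∈ G n)
    (hstep : ∀ n, ∀ b ∈ G (n + 1),
      CoalgebraStruct.comul b - b ⊗ₜ[k] (1 : B) ∈ tensorRight B (G n)) :
    HopfRep.IsUnipotent k B := by
  intro V _ _ _ _ _
  classical
  have key : ∀ (n : ℕ) (v : V), v ≠ 0 →
      Comod.coact (k := k) (A := B) v ∈ LinearMap.range ((G n).subtype.lTensor V) →
        fixedPts k B V ≠ ⊥ := by
    intro n
    induction n with
    | zero =>
        intro v hv hmem hbot
        refine hv ((Submodule.eq_bot_iff _).1 hbot v ?_)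
        obtain ⟨z, hz⟩ := hmem
        have hform : ∀ z : V ⊗[k] G 0, ∃ w : V, (G 0).subtype.lTensor V z = w ⊗ₜ[k] (1 : B) := by
          intro z
          induction z using TensorProduct.induction_on with
          | zero => exact ⟨0, by simp⟩
          | tmul w g =>
              obtain ⟨c, hc⟩ := Submodule.mem_span_singleton.1 (h0 g.2)
              exact ⟨c • w, by simp [TensorProduct.smul_tmul, hc]⟩
          | add a b ha hb =>
              obtain ⟨w, hw⟩ := ha
              obtain ⟨w', hw'⟩ := hb
              exact ⟨w + w', by rw [map_add, hw, hw', TensorProduct.add_tmul]⟩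
        obtain ⟨w, hw⟩ := hform z
        have hρ : Comod.coact (k := k) (A := B) v = w ⊗ₜ[k] (1 : B) := by rw [← hz, hw]
        have := counit_slice_coact (R := k) (C := B) v
        rw [hρ, slice_tmul, Bialgebra.counit_one, one_smul] at this
        show Comod.coact (k := k) (A := B) v = v ⊗ₜ[k] (1 : B)
        rw [hρ, this]
    | succ n ih =>
        intro v hv hmem
        set d := Comod.coact (k := k) (A := B) v - v ⊗ₜ[k] (1 : B) with hd
        by_cases hall0 : ∀ χ : B →ₗ[k] k, slice χ d = 0
        · intro hbot
          refine hv ((Submodule.eq_bot_iff _).1 hbot v ?_)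
          have := mem_tensorRight_of_slices (U := (⊥ : Submodule k V)) (x := d)
            fun χ => (hall0 χ).symm ▸ zero_mem _
          obtain ⟨y, hy⟩ := this
          show Comod.coact (k := k) (A := B) v = v ⊗ₜ[k] (1 : B)
          rw [← sub_eq_zero, ← hd, ← hy]
          rw [show ((⊥ : Submodule k V).subtype) = 0 from by ext x; exact (Submodule.mem_bot k).1 x.2]
          simp
        · push Not at hall0
          obtain ⟨χ, hχ⟩ := hall0
          refine ih _ hχ ?_
          have hc := congr($(Comod.coassoc (k := k) (A := B) (V := V)) v)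
          simp only [LinearMap.comp_apply, LinearEquiv.coe_coe] at hc
          have e1 : Comod.coact (k := k) (A := B) (slice χ d) =
              slice χ ((Comod.coact (k := k) (A := B)).rTensor B d) := (slice_rTensor _ _ _).symm
          have e2 : (Comod.coact (k := k) (A := B)).rTensor B d =
              (TensorProduct.assoc k V B B).symm
                ((red k B).lTensor V (Comod.coact (k := k) (A := B) v)) := by
            apply (TensorProduct.assoc k V B B).injective
            rw [LinearEquiv.apply_symm_apply, hd, map_sub, map_sub, hc, red,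
              LinearMap.lTensor_sub, LinearMap.sub_apply, LinearMap.rTensor_tmul]
            congr 1
            generalize Comod.coact (k := k) (A := B) v = r
            induction r using TensorProduct.induction_on with
            | zero => simp
            | tmul a b => simp
            | add a b ha hb => simp [TensorProduct.add_tmul, ha, hb]
          rw [e1, e2]
          obtain ⟨z, hz⟩ := hmem
          rw [← hz]
          clear hz e1 e2 hc hχ
          induction z using TensorProduct.induction_on with
          | zero => simp
          | tmul a g =>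
              obtain ⟨y, hy⟩ := hstep n g g.2
              simp only [LinearMap.lTensor_tmul, Submodule.subtype_apply, red_apply, ← hy]
              clear hy
              induction y using TensorProduct.induction_on with
              | zero => simp
              | tmul p q => exact ⟨χ q • (a ⊗ₜ[k] p), by simp⟩
              | add p q hp hq =>
                  simp only [map_add, TensorProduct.tmul_add] at *
                  exact add_mem hp hq
          | add a b ha hb => simp only [map_add] at *; exact add_mem ha hb
  obtain ⟨v, hv⟩ := exists_ne (0 : V)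
  have hex : ∀ x : V ⊗[k] B, ∃ n, x ∈ LinearMap.range ((G n).subtype.lTensor V) := by
    intro x
    induction x using TensorProduct.induction_on with
    | zero => exact ⟨0, zero_mem _⟩
    | tmul a b =>
        obtain ⟨n, hn⟩ := hall b
        exact ⟨n, a ⊗ₜ[k] ⟨b, hn⟩, rfl⟩
    | add a b ha hb =>
        obtain ⟨n, y, rfl⟩ := ha
        obtain ⟨m, z, rfl⟩ := hb
        refine ⟨max n m, (Submodule.inclusion (hmono (le_max_left n m))).lTensor V y +
          (Submodule.inclusion (hmono (le_max_right n m))).lTensor V z, ?_⟩
        rw [map_add, ← LinearMap.comp_apply, ← LinearMap.lTensor_comp,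
          Submodule.subtype_comp_inclusion, ← LinearMap.comp_apply, ← LinearMap.lTensor_comp,
          Submodule.subtype_comp_inclusion]
  obtain ⟨n, hn⟩ := hex (Comod.coact (k := k) (A := B) v)
  exact key n v hv hn

/-- The augmentation ideal of a Hopf subalgebra generates a Hopf ideal. -/
lemma isHopfIdeal_augIdealSpan {k : Type u} [Field k] {A : Type u} [CommRing A] [HopfAlgebra k A]
    {B : Subalgebra k A} (hB : SGA3.IsHopfSubalgebra k A B) :
    (SGA3.augIdealSpan k A B).IsHopfIdeal k := by
  set J := SGA3.augIdealSpan k A B
  let π := Ideal.Quotient.mkₐ k J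
  have hπ : ∀ b : B, π (b : A) = algebraMap k (A ⧸ J) (CoalgebraStruct.counit (b : A)) := by
    intro b
    rw [← π.commutes, ← sub_eq_zero, ← map_sub]
    exact Ideal.Quotient.eq_zero_iff_mem.2 (Ideal.subset_span
      ⟨B.sub_mem b.2 (B.algebraMap_mem _), by simp⟩)
  let D : A →ₐ[k] (A ⧸ J) ⊗[k] (A ⧸ J) :=
    (Algebra.TensorProduct.map π π).comp (Bialgebra.comulAlgHom k A)
  have hD : J ≤ RingHom.ker D := by
    refine Ideal.span_le.2 ?_
    rintro a ⟨haB, ha⟩
    obtain ⟨z, hz⟩ := hB.1 a haB
    have hval : ∀ z : B ⊗[k] B,
        Algebra.TensorProduct.map π π (TensorProduct.map B.val.toLinearMap B.val.toLinearMap z) =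
          algebraMap k _ (LinearMap.mul' k k (TensorProduct.map
            (CoalgebraStruct.counit (R := k) (A := A)) (CoalgebraStruct.counit (R := k) (A := A))
            (TensorProduct.map B.val.toLinearMap B.val.toLinearMap z))) := by
      intro z
      induction z using TensorProduct.induction_on with
      | zero => simp
      | tmul x y =>
          simp only [TensorProduct.map_tmul, AlgHom.toLinearMap_apply, Subalgebra.coe_val,
            Algebra.TensorProduct.map_tmul, LinearMap.mul'_apply, hπ, map_mul]
          simp [Algebra.TensorProduct.one_def, Algebra.algebraMap_eq_smul_one,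
            TensorProduct.smul_tmul', TensorProduct.tmul_smul, mul_comm]
      | add x y hx hy => simp only [map_add, hx, hy]
    have hmm : LinearMap.mul' k k (TensorProduct.map
        (CoalgebraStruct.counit (R := k) (A := A)) (CoalgebraStruct.counit (R := k) (A := A))
        (CoalgebraStruct.comul a)) = CoalgebraStruct.counit a := by
      rw [← LinearMap.lTensor_comp_rTensor, LinearMap.comp_apply,
        Coalgebra.rTensor_counit_comul]
      simp
    show D a = 0
    rw [AlgHom.comp_apply, Bialgebra.comulAlgHom_apply, ← hz, hval, hz, hmm, ha, map_zero]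
  have hS : J ≤ J.comap (HopfAlgebra.antipodeAlgHom k A) := Ideal.span_le.2 fun a ha =>
    Ideal.subset_span ⟨hB.2 a ha.1, by
      show CoalgebraStruct.counit (HopfAlgebraStruct.antipode (R := k) a) = 0
      rw [HopfAlgebra.counit_antipode]
      exact ha.2⟩
  have hε : J ≤ RingHom.ker (Bialgebra.counitAlgHom k A) :=
    Ideal.span_le.2 fun a ha => ha.2
  refine { counit_eq_zero := fun x hx => hε hx, map_mkQ_comul_eq_zero := ?_, antipode_mem := fun x hx => hS hx }
  intro x hx
  exact hD hx

end Groth.Agent.Lib.Hopf.Irred
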