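import Groth.Agent.Lib.Hopf.FiniteLocal
import Groth.Agent.Lib.Hopf.Points
import Mathlib.RingTheory.HopfAlgebra.Quotient
import Mathlib.RingTheory.HopfAlgebra.TensorProduct
import Mathlib.RingTheory.HopfAlgebra.Convolution
import Mathlib.GroupTheory.OrderOfElement
import Mathlib.RingTheory.Ideal.Quotient.Operations
import Mathlib.FieldTheory.IsAlgClosed.AlgebraicClosure
import Mathlib.LinearAlgebra.Dimension.Constructions

/-!
A finite group scheme of order `n` over a field is killed by `n`.
-/

open TensorProduct WithConv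

namespace Groth.Agent.Lib.Hopf.FiniteKilled

universe u

variable {k : Type u} [Field k]

/-- A nilpotent ideal of a finite dimensional algebra vanishes at the power equal to the
dimension. -/
lemma pow_finrank_eq_bot {Q : Type*} [CommRing Q] [Algebra k Q] [Module.Finite k Q] {M : Ideal Q}
    (hM : IsNilpotent M) : M ^ Module.finrank k Q = ⊥ := by
  obtain ⟨N, hN⟩ := hM
  let r := fun j => ((M ^ j).restrictScalars k : Submodule k Q)
  have key : ∀ j, M ^ j ≠ ⊥ → Module.finrank k (r j) + j ≤ Module.finrank k Q := by
    intro j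
    induction j with
    | zero => intro _; simpa using Submodule.finrank_le _
    | succ j ih =>
        intro hne
        have hle : M ^ (j + 1) ≤ M ^ j := Ideal.pow_le_pow_right (by omega)
        have hne' : M ^ j ≠ ⊥ := fun h => hne (eq_bot_iff.2 (h ▸ hle))
        have hlt : r (j + 1) < r j := by
          refine lt_of_le_of_ne hle fun h => hne ?_
          have h' : M ^ (j + 1) = M ^ j := Submodule.restrictScalars_injective k _ _ h
          have hstab : ∀ l, M ^ (j + 1 + l) = M ^ (j + 1) := by
            intro l
            induction l with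
            | zero => rfl
            | succ l ihl => rw [← add_assoc, pow_succ, ihl, h', ← pow_succ, h']
          rw [← hstab N, pow_add, hN, mul_zero, Submodule.zero_eq_bot]
        have := Submodule.finrank_lt_finrank_of_lt hlt
        have := ih hne'
        omega
  by_contra hne
  have h1 := key _ hne
  have h2 : 0 < Module.finrank k (r (Module.finrank k Q)) := by
    rw [Nat.pos_iff_ne_zero, Ne, Submodule.finrank_eq_zero, Submodule.restrictScalars_eq_bot_iff]
    exact hne
  omega

variable {A : Type u} [CommRing A] [HopfAlgebra k A]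

/-- Translation by a rational point. -/
noncomputable def transl (g : A →ₐ[k] k) : A →ₐ[k] A :=
  (Algebra.TensorProduct.rid k k A).toAlgHom.comp
    ((Algebra.TensorProduct.map (AlgHom.id k A) g).comp (Bialgebra.comulAlgHom k A))

lemma comp_transl (f g : A →ₐ[k] k) :
    f.comp (transl g) = (toConv f * toConv g).ofConv := by
  refine AlgHom.ext fun a => ?_
  show f (transl g a) = (toConv f * toConv g) a
  rw [AlgHom.convMul_apply]
  simp only [transl, AlgHom.comp_apply, Bialgebra.comulAlgHom_apply]
  generalize CoalgebraStruct.comul (R := k) a = y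
  induction y using TensorProduct.induction_on with
  | zero => simp
  | tmul p q => simp [mul_comm]
  | add p q hp hq => simp_all [map_add]

lemma comap_transl (f g : A →ₐ[k] k) :
    (RingHom.ker f).comap (transl g) = RingHom.ker (toConv f * toConv g).ofConv := by
  ext a
  rw [Ideal.mem_comap, RingHom.mem_ker, RingHom.mem_ker, ← comp_transl]
  rfl

lemma transl_transl (g h : A →ₐ[k] k) (a : A) :
    transl g (transl h a) = transl (toConv g * toConv h).ofConv a := by
  let G : A ⊗[k] (A ⊗[k] A) →ₗ[k] A :=
    (TensorProduct.rid k A).toLinearMap ∘ₗ LinearMap.lTensor A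
      (LinearMap.mul' k k ∘ₗ TensorProduct.map g.toLinearMap h.toLinearMap)
  have hR : transl (toConv g * toConv h).ofConv a =
      G ((CoalgebraStruct.comul (R := k) (A := A)).lTensor A (CoalgebraStruct.comul (R := k) a)) := by
    simp only [transl, AlgHom.comp_apply, Bialgebra.comulAlgHom_apply]
    generalize CoalgebraStruct.comul (R := k) a = y
    induction y using TensorProduct.induction_on with
    | zero => simp
    | tmul p q =>
        simp only [Algebra.TensorProduct.map_tmul, AlgHom.id_apply, LinearMap.lTensor_tmul, G,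
          LinearMap.comp_apply, LinearEquiv.coe_coe, TensorProduct.rid_tmul,
          AlgEquiv.coe_toAlgHom, Algebra.TensorProduct.rid_tmul]
        congr 1
    | add p q hp hq => simp only [map_add, hp, hq]
  have hL : transl g (transl h a) = G (TensorProduct.assoc k A A A
      ((CoalgebraStruct.comul (R := k) (A := A)).rTensor A (CoalgebraStruct.comul (R := k) a))) := by
    simp only [transl, AlgHom.comp_apply, Bialgebra.comulAlgHom_apply]
    generalize CoalgebraStruct.comul (R := k) a = y
    induction y using TensorProduct.induction_on with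
    | zero => simp
    | tmul p q =>
        simp only [Algebra.TensorProduct.map_tmul, AlgHom.id_apply, LinearMap.rTensor_tmul,
          AlgEquiv.coe_toAlgHom, Algebra.TensorProduct.rid_tmul, map_smul]
        generalize CoalgebraStruct.comul (R := k) p = z
        induction z using TensorProduct.induction_on with
        | zero => simp
        | tmul u v => simp [G, smul_smul, mul_comm]
        | add u v hu hv => simp only [map_add, TensorProduct.add_tmul, smul_add, hu, hv]
    | add p q hp hq => simp only [map_add, hp, hq]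
  rw [hL, hR, Coalgebra.coassoc_apply]

lemma transl_one (a : A) : transl (1 : WithConv (A →ₐ[k] k)).ofConv a = a := by
  have h : ∀ y : A ⊗[k] A, Algebra.TensorProduct.map (AlgHom.id k A)
      (1 : WithConv (A →ₐ[k] k)).ofConv y =
      (CoalgebraStruct.counit (R := k) (A := A)).lTensor A y := by
    intro y
    induction y using TensorProduct.induction_on with
    | zero => simp
    | tmul p q => simp [AlgHom.convOne_def]
    | add p q hp hq => simp [hp, hq]
  simp [transl, h]

/-- Translation by a rational point as an automorphism. -/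
noncomputable def translEquiv (g : A →ₐ[k] k) : A ≃ₐ[k] A :=
  AlgEquiv.ofAlgHom (transl g) (transl ((toConv g)⁻¹).ofConv)
    (AlgHom.ext fun a => by
      rw [AlgHom.comp_apply, transl_transl, toConv_ofConv, mul_inv_cancel]; exact transl_one a)
    (AlgHom.ext fun a => by
      rw [AlgHom.comp_apply, transl_transl, toConv_ofConv, inv_mul_cancel]; exact transl_one a)

omit [HopfAlgebra k A] in
lemma ker_ne [Algebra k A] {g h : A →ₐ[k] k} (hgh : g ≠ h) : RingHom.ker g ≠ RingHom.ker h := by
  intro e
  refine hgh (AlgHom.ext fun a => ?_)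
  have : a - algebraMap k A (g a) ∈ RingHom.ker h := e ▸ (by simp [RingHom.mem_ker])
  rw [RingHom.mem_ker, map_sub, AlgHom.commutes, sub_eq_zero] at this
  simpa using this.symm

variable [Module.Finite k A]

/-- `m_g ^ N`, the ideal cutting out the local ring at the point `g`. -/
noncomputable def locIdeal (N : ℕ) (g : A →ₐ[k] k) : Ideal A := RingHom.ker g ^ N

section AlgClosed

variable [IsAlgClosed k] {N : ℕ}

omit [IsAlgClosed k] in
lemma finite_points : Finite (A →ₐ[k] k) := by
  have : IsArtinianRing A := IsArtinianRing.of_finite k A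
  refine Finite.of_injective (fun g : A →ₐ[k] k =>
    (⟨RingHom.ker g, RingHom.ker_isMaximal_of_surjective g
      fun r => ⟨algebraMap k A r, by simp⟩⟩ : MaximalSpectrum A)) fun g h e => ?_
  by_contra hgh
  exact ker_ne hgh (congrArg MaximalSpectrum.asIdeal e)

variable (k A) in
/-- A uniform nilpotency bound. -/
noncomputable def bound : ℕ :=
  have : IsArtinianRing A := IsArtinianRing.of_finite k A
  (IsArtinianRing.isNilpotent_jacobson_bot (R := A)).choose + 1

lemma iInf_locIdeal_eq_bot : ⨅ g : A →ₐ[k] k, locIdeal (bound k A) g = ⊥ := by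
  classical
  have : IsArtinianRing A := IsArtinianRing.of_finite k A
  have := finite_points (k := k) (A := A)
  let _ := Fintype.ofFinite (A →ₐ[k] k)
  have hN : Ideal.jacobson (⊥ : Ideal A) ^ bound k A = ⊥ := by
    rw [bound, pow_succ, (IsArtinianRing.isNilpotent_jacobson_bot (R := A)).choose_spec, zero_mul,
      Submodule.zero_eq_bot]
  have hcop : Pairwise fun g h : A →ₐ[k] k => IsCoprime (RingHom.ker g) (RingHom.ker h) :=
    fun g h hgh => Ideal.isCoprime_iff_sup_eq.2 ((RingHom.ker_isMaximal_of_surjective g
      fun r => ⟨algebraMap k A r, by simp⟩).coprime_of_ne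
      (RingHom.ker_isMaximal_of_surjective h fun r => ⟨algebraMap k A r, by simp⟩) (ker_ne hgh))
  have h1 : ⨅ g : A →ₐ[k] k, locIdeal (bound k A) g =
      (∏ g : A →ₐ[k] k, RingHom.ker g) ^ bound k A := by
    rw [← Finset.prod_pow, Ideal.prod_eq_iInf_of_pairwise_isCoprime fun g _ h _ hgh => (hcop hgh).pow]
    simp [locIdeal]
  rw [h1, eq_bot_iff, ← hN]
  refine Ideal.pow_right_mono ?_ _
  rw [Ideal.prod_eq_iInf_of_pairwise_isCoprime fun g _ h _ hgh => hcop hgh]
  intro a ha
  refine Ideal.mem_sInf.2 fun m hm => ?_
  have : m.IsMaximal := hm.2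
  obtain ⟨g, rfl⟩ := Groth.Agent.Lib.Hopf.Points.exists_point_of_isMaximal (k := k) m
  exact (iInf₂_le (f := fun (g : A →ₐ[k] k) (_ : g ∈ Finset.univ) => RingHom.ker g) g (Finset.mem_univ g)) ha

omit [IsAlgClosed k] [Module.Finite k A] in
lemma isCoprime_locIdeal {g h : A →ₐ[k] k} (hgh : g ≠ h) :
    IsCoprime (locIdeal N g) (locIdeal N h) :=
  (Ideal.isCoprime_iff_sup_eq.2 ((RingHom.ker_isMaximal_of_surjective g
      fun r => ⟨algebraMap k A r, by simp⟩).coprime_of_ne
      (RingHom.ker_isMaximal_of_surjective h fun r => ⟨algebraMap k A r, by simp⟩) (ker_ne hgh))).pow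

lemma mk_eq_zero_all {a : A} (h : ∀ g : A →ₐ[k] k, a ∈ locIdeal (bound k A) g) : a = 0 := by
  have : a ∈ ⨅ g : A →ₐ[k] k, locIdeal (bound k A) g := Ideal.mem_iInf.2 h
  rwa [iInf_locIdeal_eq_bot, Ideal.mem_bot] at this

/-- All local factors have the dimension of the one at the origin. -/
lemma finrank_quot_eq (g : A →ₐ[k] k) :
    Module.finrank k (A ⧸ locIdeal N g) =
      Module.finrank k (A ⧸ locIdeal N (Bialgebra.counitAlgHom k A)) := by
  let e := translEquiv g
  have h1 : (RingHom.ker g).map (e : A →+* A) = RingHom.ker (Bialgebra.counitAlgHom k A) := by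
    have h2 : RingHom.ker g = (RingHom.ker (Bialgebra.counitAlgHom k A)).comap (e : A →+* A) := by
      rw [show (e : A →+* A) = (transl g : A →+* A) from rfl]
      have := comap_transl (k := k) (Bialgebra.counitAlgHom k A) g
      rw [show toConv (Bialgebra.counitAlgHom k A) = (1 : WithConv (A →ₐ[k] k)) from rfl,
        one_mul] at this
      exact this.symm
    rw [h2]
    exact Ideal.map_comap_of_surjective (e : A →+* A) e.surjective _
  exact (Ideal.quotientEquivAlg (locIdeal N g) _ e (by
    rw [locIdeal, locIdeal, ← h1, ← Ideal.map_pow])).toLinearEquiv.finrank_eq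

/-- `finrank A` is the number of points times the local dimension. -/
lemma finrank_eq_card_mul :
    Module.finrank k A = Nat.card (A →ₐ[k] k) *
      Module.finrank k (A ⧸ locIdeal (bound k A) (Bialgebra.counitAlgHom k A)) := by
  have := finite_points (k := k) (A := A)
  let _ := Fintype.ofFinite (A →ₐ[k] k)
  let Φ : A →ₗ[k] (∀ g : A →ₐ[k] k, A ⧸ locIdeal (bound k A) g) :=
    LinearMap.pi fun g => (Ideal.Quotient.mkₐ k (locIdeal (bound k A) g)).toLinearMap
  have hΦ : Function.Bijective Φ := by
    refine ⟨fun a b hab => ?_, fun y => ?_⟩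
    · rw [← sub_eq_zero]
      refine mk_eq_zero_all (k := k) fun g => ?_
      rw [← Ideal.Quotient.eq_zero_iff_mem, map_sub, sub_eq_zero]
      exact congrFun hab g
    · obtain ⟨a, ha⟩ := Ideal.pi_quotient_surjective
        (I := fun g : A →ₐ[k] k => locIdeal (bound k A) g) (fun g h hgh => isCoprime_locIdeal hgh) y
      exact ⟨a, funext fun g => ha g⟩
  rw [(LinearEquiv.ofBijective Φ hΦ).finrank_eq, Module.finrank_pi_fintype,
    Finset.sum_congr rfl fun g _ => finrank_quot_eq g, Finset.sum_const, Finset.card_univ,
    Nat.card_eq_fintype_card, smul_eq_mul]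

lemma isHopfIdeal_locIdeal :
    (locIdeal (bound k A) (Bialgebra.counitAlgHom k A)).IsHopfIdeal k := by
  classical
  set ε := Bialgebra.counitAlgHom k A
  set I := locIdeal (bound k A) ε with hI
  have hidem : I ≤ I * I := by
    have := finite_points (k := k) (A := A)
    let _ := Fintype.ofFinite (A →ₐ[k] k)
    let J := ∏ g ∈ Finset.univ.erase ε, locIdeal (bound k A) g
    have hcop : IsCoprime I J := IsCoprime.prod_right fun g hg =>
      isCoprime_locIdeal (Finset.ne_of_mem_erase hg).symm
    have hzero : I * J ≤ ⊥ := by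
      rw [← iInf_locIdeal_eq_bot (k := k) (A := A), le_iInf_iff]
      intro g
      by_cases hg : g = ε
      · subst hg; exact Ideal.mul_le_left
      · exact Ideal.mul_le_right.trans ((Ideal.prod_le_inf).trans
          (Finset.inf_le (Finset.mem_erase.2 ⟨hg, Finset.mem_univ g⟩)))
    calc I = I * (I ⊔ J) := by rw [Ideal.isCoprime_iff_sup_eq.1 hcop, Ideal.mul_top]
      _ ≤ I * I := by
        rw [Ideal.mul_sup]
        exact sup_le le_rfl (hzero.trans bot_le)
  have hε : I ≤ RingHom.ker ε := Ideal.pow_le_self (by simp [bound])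
  have hS : (RingHom.ker ε).map (HopfAlgebra.antipodeAlgHom k A) ≤ RingHom.ker ε :=
    Ideal.map_le_iff_le_comap.2 fun a ha => by
      simpa [RingHom.mem_ker, Ideal.mem_comap, ε] using ha
  have hco : (I.restrictScalars k).IsCoideal := by
    refine ⟨fun x hx => hε hx, fun x hx => ?_⟩
    let q := Algebra.TensorProduct.map (Ideal.Quotient.mkₐ k I) (Ideal.Quotient.mkₐ k I)
    show q (Bialgebra.comulAlgHom k A x) = 0
    -- the two copies of the augmentation ideal in the tensor square
    let q₁ : A →+* (A ⧸ I) ⊗[k] (A ⧸ I) :=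
      q.toRingHom.comp Algebra.TensorProduct.includeLeftRingHom
    let q₂ : A →+* (A ⧸ I) ⊗[k] (A ⧸ I) :=
      q.toRingHom.comp (Algebra.TensorProduct.includeRight (R := k) (A := A) (B := A)).toRingHom
    let L := (RingHom.ker ε).map q₁ ⊔ (RingHom.ker ε).map q₂
    have hsplit : ∀ a ∈ RingHom.ker ε, q (Bialgebra.comulAlgHom k A a) ∈ L := by
      intro a ha
      have key : ∀ y : A ⊗[k] A, q y - q ((1 : A) ⊗ₜ TensorProduct.lid k A
          ((CoalgebraStruct.counit (R := k) (A := A)).rTensor A y)) ∈ L := by
        intro y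
        induction y using TensorProduct.induction_on with
        | zero => simp
        | tmul u v =>
            have : q (u ⊗ₜ v) - q ((1 : A) ⊗ₜ TensorProduct.lid k A
                ((CoalgebraStruct.counit (R := k) (A := A)).rTensor A (u ⊗ₜ v))) =
                q₁ (u - algebraMap k A (ε u)) * q₂ v := by
              have hsm : ∀ c : k, Ideal.Quotient.mk I (c • (1 : A)) = c • 1 := fun c =>
                (map_smul (Ideal.Quotient.mkₐ k I) c 1).trans (by simp)
              simp [q₁, q₂, ε, q, Algebra.algebraMap_eq_smul_one, map_sub, sub_mul, hsm,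
                TensorProduct.smul_tmul']
            rw [this]
            refine Ideal.mul_mem_right _ _ (Ideal.mem_sup_left (Ideal.mem_map_of_mem q₁ ?_))
            rw [RingHom.mem_ker, map_sub, AlgHom.commutes]; simp [ε]
        | add u v hu hv =>
            simp only [map_add, TensorProduct.tmul_add, add_sub_add_comm]
            exact add_mem hu hv
      have h1 := key (CoalgebraStruct.comul (R := k) a)
      rw [Coalgebra.rTensor_counit_comul, TensorProduct.lid_tmul, one_smul] at h1
      have h2 : q ((1 : A) ⊗ₜ a) ∈ L := Ideal.mem_sup_right (Ideal.mem_map_of_mem q₂ ha)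
      simpa using add_mem h1 h2
    let N := bound k A
    have hz₁ : ((RingHom.ker ε).map q₁) ^ N = ⊥ := by
      rw [← Ideal.map_pow, Ideal.map_eq_bot_iff_le_ker]
      intro a ha
      have ha' : Ideal.Quotient.mk I a = 0 := Ideal.Quotient.eq_zero_iff_mem.2 ha
      simp [RingHom.mem_ker, q₁, q, ha']
    have hz₂ : ((RingHom.ker ε).map q₂) ^ N = ⊥ := by
      rw [← Ideal.map_pow, Ideal.map_eq_bot_iff_le_ker]
      intro a ha
      have ha' : Ideal.Quotient.mk I a = 0 := Ideal.Quotient.eq_zero_iff_mem.2 ha
      simp [RingHom.mem_ker, q₂, q, ha']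
    have hL : L ^ (N + N) = ⊥ := by
      rw [eq_bot_iff]
      refine (Ideal.sup_pow_add_le_pow_sup_pow).trans ?_
      rw [hz₁, hz₂, sup_bot_eq]
    have hmap : (RingHom.ker ε ^ (N + N)).map
        (q.comp (Bialgebra.comulAlgHom k A)).toRingHom ≤ ⊥ := by
      rw [Ideal.map_pow, ← hL]
      exact Ideal.pow_right_mono (Ideal.map_le_iff_le_comap.2 hsplit) _
    have hx' : x ∈ RingHom.ker ε ^ (N + N) := by
      rw [pow_add]; exact hidem hx
    exact (Ideal.mem_bot.1 (hmap (Ideal.mem_map_of_mem _ hx')))
  exact { toIsCoideal := hco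
          antipode_mem := fun x hx => by
            have h2 := Ideal.mem_map_of_mem (HopfAlgebra.antipodeAlgHom k A) hx
            rw [hI, locIdeal, Ideal.map_pow] at h2
            exact Ideal.pow_right_mono hS _ h2 }

/-- The local dimension is `1` or a power of the characteristic. -/
lemma local_dim :
    Module.finrank k (A ⧸ locIdeal (bound k A) (Bialgebra.counitAlgHom k A)) = 1 ∨
    ∃ (p r : ℕ), p.Prime ∧ CharP k p ∧
      Module.finrank k (A ⧸ locIdeal (bound k A) (Bialgebra.counitAlgHom k A)) = p ^ r := by
  set I := locIdeal (bound k A) (Bialgebra.counitAlgHom k A) with hI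
  have : I.IsHopfIdeal k := isHopfIdeal_locIdeal
  have hmax : (RingHom.ker (Bialgebra.counitAlgHom k A)).IsMaximal :=
    RingHom.ker_isMaximal_of_surjective _ fun r => ⟨algebraMap k A r, by simp⟩
  have : Nontrivial (A ⧸ I) := Ideal.Quotient.nontrivial_iff.2 fun h => hmax.ne_top
    (top_le_iff.1 (h.ge.trans (Ideal.pow_le_self (by simp [bound]))))
  have : IsLocalRing (A ⧸ I) := by
    refine IsLocalRing.of_unique_max_ideal ⟨(RingHom.ker (Bialgebra.counitAlgHom k A)).map
      (Ideal.Quotient.mk I), ?_, fun M hM => ?_⟩
    · refine (Ideal.map_eq_top_or_isMaximal_of_surjective _ Ideal.Quotient.mk_surjective hmax).resolve_left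
        fun h => hmax.ne_top ?_
      have := congrArg (Ideal.comap (Ideal.Quotient.mk I)) h
      rw [Ideal.comap_map_of_surjective _ Ideal.Quotient.mk_surjective, Ideal.comap_top] at this
      rw [← this, sup_eq_left.2]
      rw [← RingHom.ker_eq_comap_bot, Ideal.mk_ker]
      exact Ideal.pow_le_self (by simp [bound])
    · have : (M.comap (Ideal.Quotient.mk I)).IsMaximal :=
        Ideal.comap_isMaximal_of_surjective _ Ideal.Quotient.mk_surjective
      have hle : RingHom.ker (Bialgebra.counitAlgHom k A) ≤ M.comap (Ideal.Quotient.mk I) := by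
        refine this.isPrime.le_of_pow_le (n := bound k A) ?_
        intro a ha
        have ha' : Ideal.Quotient.mk I a = 0 := Ideal.Quotient.eq_zero_iff_mem.2 ha
        rw [Ideal.mem_comap, ha']
        exact zero_mem M
      rw [hmax.eq_of_le this.ne_top hle,
        Ideal.map_comap_of_surjective _ Ideal.Quotient.mk_surjective]
  rcases CharP.exists' k with h0 | ⟨p, hp, hc⟩
  · exact Or.inl Groth.Agent.Lib.Hopf.FiniteLocal.finrank_eq_one_of_charZero
  · obtain ⟨r, hr⟩ := Groth.Agent.Lib.Hopf.FiniteLocal.exists_finrank_eq_pow (k := k) p _ (A ⧸ I) rfl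
    exact Or.inr ⟨p, r, hp.out, hc, hr⟩

omit [Module.Finite k A] [IsAlgClosed k] in
lemma sub_one_pow_mem {Q : Type*} [CommRing Q] [Algebra k Q] (M : Ideal Q)
    (φ : A →ₐ[k] Q) (hφ : ∀ a ∈ RingHom.ker (Bialgebra.counitAlgHom k A), φ a ∈ M) :
    ∀ (j : ℕ) (a : A), ((toConv φ.toLinearMap - 1 : WithConv (A →ₗ[k] Q)) ^ j) a ∈ M ^ j := by
  intro j
  induction j with
  | zero => intro a; simp
  | succ j ih =>
      intro a
      rw [pow_succ (toConv φ.toLinearMap - 1 : WithConv (A →ₗ[k] Q)), LinearMap.convMul_apply,
        pow_succ]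
      generalize CoalgebraStruct.comul (R := k) a = y
      induction y using TensorProduct.induction_on with
      | zero => simp
      | tmul u v =>
          simp only [TensorProduct.map_tmul, LinearMap.mul'_apply]
          refine Ideal.mul_mem_mul (ih u) ?_
          have h := hφ (v - algebraMap k A (Bialgebra.counitAlgHom k A v)) (by
            rw [RingHom.mem_ker, map_sub, AlgHom.commutes]; simp)
          rw [map_sub, AlgHom.commutes] at h
          simpa using h
      | add u v hu hv => simp only [map_add]; exact add_mem hu hv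

/-- A finite group scheme over an algebraically closed field is killed by its order. -/
theorem pow_finrank_eq_one_of_algClosed :
    (toConv (AlgHom.id k A)) ^ (Module.finrank k A) = 1 := by
  have := finite_points (k := k) (A := A)
  have : Finite (WithConv (A →ₐ[k] k)) := Finite.of_equiv _ (WithConv.equiv _).symm
  set n₀ := Module.finrank k (A ⧸ locIdeal (bound k A) (Bialgebra.counitAlgHom k A)) with hn₀
  set m := Nat.card (A →ₐ[k] k) with hm
  rw [finrank_eq_card_mul]
  apply WithConv.ofConv_injective
  refine AlgHom.ext fun a => ?_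
  rw [← sub_eq_zero]
  refine mk_eq_zero_all (k := k) fun g => ?_
  let Q := A ⧸ locIdeal (bound k A) g
  let q : A →ₐ[k] Q := Ideal.Quotient.mkₐ k _
  have hpush : ∀ j, toConv (q.comp ((toConv (AlgHom.id k A)) ^ j).ofConv) = (toConv q) ^ j := by
    intro j
    induction j with
    | zero =>
        rw [pow_zero, pow_zero]
        exact WithConv.ofConv_injective (AlgHom.ext fun x => by simp [AlgHom.convOne_def])
    | succ j ih =>
        rw [pow_succ, pow_succ, ← ih]
        apply WithConv.ofConv_injective
        rw [AlgHom.comp_convMul_distrib]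
        rfl
  suffices h : (toConv q) ^ (m * n₀) = 1 by
    rw [← Ideal.Quotient.eq_zero_iff_mem, map_sub, sub_eq_zero]
    have h2 := hpush (m * n₀)
    rw [h] at h2
    have h3 := congrArg (fun f : WithConv (A →ₐ[k] Q) => WithConv.ofConv f a) h2
    simp only [WithConv.ofConv_toConv, AlgHom.comp_apply] at h3
    refine h3.trans ?_
    simp [AlgHom.convOne_def, q]
    rfl
  rw [pow_mul]
  set ψ := ((toConv q) ^ m).ofConv with hψ
  -- the residue point has order dividing `m`
  let res : Q →ₐ[k] k := Ideal.Quotient.liftₐ _ g fun x hx =>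
    RingHom.mem_ker.1 (Ideal.pow_le_self (by simp [bound]) hx)
  have hres : ∀ j, toConv (res.comp ((toConv q) ^ j).ofConv) = (toConv g) ^ j := by
    intro j
    induction j with
    | zero =>
        rw [pow_zero, pow_zero]
        exact WithConv.ofConv_injective (AlgHom.ext fun x => by simp [AlgHom.convOne_def])
    | succ j ih =>
        rw [pow_succ, pow_succ, ← ih]
        apply WithConv.ofConv_injective
        rw [AlgHom.comp_convMul_distrib]
        rfl
  have hgm : (toConv g) ^ m = (1 : WithConv (A →ₐ[k] k)) := by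
    rw [hm, ← Nat.card_congr (WithConv.equiv (A →ₐ[k] k)), pow_card_eq_one']
  let M : Ideal Q := RingHom.ker res
  have hψM : ∀ x ∈ RingHom.ker (Bialgebra.counitAlgHom k A), ψ x ∈ M := by
    intro x hx
    have h := congrArg (fun f : WithConv (A →ₐ[k] k) => WithConv.ofConv f x) ((hres m).trans hgm)
    simp only [WithConv.ofConv_toConv, AlgHom.comp_apply] at h
    rw [RingHom.mem_ker, ← hψ] at *
    rw [h]
    simpa [AlgHom.convOne_def] using hx
  have hMnil : IsNilpotent M := by
    refine ⟨bound k A, ?_⟩
    rw [Submodule.zero_eq_bot, eq_bot_iff]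
    have hMle : M ≤ (RingHom.ker g).map q := fun y hy => by
      obtain ⟨y, rfl⟩ := Ideal.Quotient.mkₐ_surjective k _ y
      exact Ideal.mem_map_of_mem q hy
    refine (Ideal.pow_right_mono hMle _).trans ?_
    rw [← Ideal.map_pow, Ideal.map_le_iff_le_comap]
    intro y hy
    exact Ideal.mem_bot.2 (Ideal.Quotient.eq_zero_iff_mem.2 hy)
  have hM0 : M ^ n₀ = ⊥ := by
    have : Module.finrank k Q = n₀ := finrank_quot_eq g
    rw [← this]
    exact pow_finrank_eq_bot hMnil
  have hlin : (toConv ψ.toLinearMap) ^ n₀ = (1 : WithConv (A →ₗ[k] Q)) := by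
    have hzero : (toConv ψ.toLinearMap - 1 : WithConv (A →ₗ[k] Q)) ^ n₀ = 0 :=
      WithConv.ofConv_injective (LinearMap.ext fun x => Ideal.mem_bot.1
        (hM0 ▸ sub_one_pow_mem M ψ hψM n₀ x))
    rcases (local_dim : n₀ = 1 ∨ ∃ p r, p.Prime ∧ CharP k p ∧ n₀ = p ^ r) with h1 | ⟨p, r, hp, hc, hpr⟩
    · rw [show n₀ = 1 from h1, pow_one] at hzero ⊢
      exact sub_eq_zero.1 hzero
    · have hp0 : (p : WithConv (A →ₗ[k] Q)) = 0 := by
        rw [← map_natCast (algebraMap k (WithConv (A →ₗ[k] Q))), CharP.cast_eq_zero, map_zero]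
      have h2 := (Commute.one_right (toConv ψ.toLinearMap - 1 : WithConv (A →ₗ[k] Q))).add_pow_prime_pow_eq hp r
      rw [sub_add_cancel, ← hpr, hzero, one_pow, hp0, zero_mul, zero_mul, zero_mul, add_zero,
        zero_add] at h2
      exact h2
  apply WithConv.ofConv_injective
  apply AlgHom.toLinearMap_injective
  have h := AlgHom.toLinearMap_convPow ((toConv q) ^ m) n₀
  exact congrArg WithConv.ofConv (h.trans hlin)

end AlgClosed

/-- Restriction of points along `A → L ⊗ A`. -/
theorem pow_finrank_eq_one : (toConv (AlgHom.id k A)) ^ (Module.finrank k A) = 1 := by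
  let L := AlgebraicClosure k
  let A' := L ⊗[k] A
  let ι : A →ₐ[k] A' := Algebra.TensorProduct.includeRight
  let Φ : WithConv (A' →ₐ[L] A') → WithConv (A →ₐ[k] A') := fun f =>
    toConv ((f.ofConv.restrictScalars k).comp ι)
  have hΦ1 : Φ 1 = 1 := WithConv.ofConv_injective (AlgHom.ext fun a => by
    simp [Φ, ι, AlgHom.convOne_def, A', Algebra.algebraMap_eq_smul_one, TensorProduct.smul_tmul', Algebra.TensorProduct.one_def])
  have hΦm : ∀ f g, Φ (f * g) = Φ f * Φ g := fun f g =>
    WithConv.ofConv_injective (AlgHom.ext fun a => by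
      show (f * g) ((1 : L) ⊗ₜ[k] a) = (Φ f * Φ g) a
      rw [AlgHom.convMul_apply, AlgHom.convMul_apply]
      rw [TensorProduct.comul_tmul, CommSemiring.comul_apply]
      generalize CoalgebraStruct.comul (R := k) a = y
      induction y using TensorProduct.induction_on with
      | zero => simp
      | tmul u v => simp [Φ, ι]; rfl
      | add u v hu hv => simp_all [TensorProduct.tmul_add])
  have hΦp : ∀ j, Φ (toConv (AlgHom.id L A') ^ j) = (Φ (toConv (AlgHom.id L A'))) ^ j := by
    intro j
    induction j with
    | zero => simpa using hΦ1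
    | succ j ih => rw [pow_succ, pow_succ, hΦm, ih]
  have h := hΦp (Module.finrank k A)
  have hrank : Module.finrank L A' = Module.finrank k A := Module.finrank_baseChange
  rw [← hrank, pow_finrank_eq_one_of_algClosed, hΦ1, hrank] at h
  have hpush : ∀ j, toConv (ι.comp ((toConv (AlgHom.id k A)) ^ j).ofConv) = (toConv ι) ^ j := by
    intro j
    induction j with
    | zero =>
        rw [pow_zero, pow_zero]
        exact WithConv.ofConv_injective (AlgHom.ext fun x => by
          simp [AlgHom.convOne_def, ι, A', Algebra.algebraMap_eq_smul_one, TensorProduct.smul_tmul', Algebra.TensorProduct.one_def])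
    | succ j ih =>
        rw [pow_succ, pow_succ, ← ih]
        apply WithConv.ofConv_injective
        rw [AlgHom.comp_convMul_distrib]
        rfl
  have h2 : toConv (ι.comp ((toConv (AlgHom.id k A)) ^ Module.finrank k A).ofConv) = 1 :=
    (hpush _).trans h.symm
  apply WithConv.ofConv_injective
  refine AlgHom.ext fun a => ?_
  apply Algebra.TensorProduct.includeRight_injective (R := k) (A := L) (algebraMap k L).injective
  have h3 := congrArg (fun f : WithConv (A →ₐ[k] A') => WithConv.ofConv f a) h2
  simp only [WithConv.ofConv_toConv, AlgHom.comp_apply] at h3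
  refine h3.trans ?_
  simp [AlgHom.convOne_def, A', ι, Algebra.algebraMap_eq_smul_one, TensorProduct.smul_tmul', Algebra.TensorProduct.one_def]

end Groth.Agent.Lib.Hopf.FiniteKilled
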