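import Groth.Prelude.Def_HopfRep
import Mathlib.RingTheory.Flat.Basic
import Mathlib.LinearAlgebra.TensorProduct.RightExactness
import Mathlib.LinearAlgebra.DirectSum.Finsupp
import Mathlib.Algebra.Module.Projective
import Mathlib.RingTheory.Noetherian.Basic

/-!
Comodules over a coalgebra over a commutative ring: slices, the largest subcomodule inside a
submodule, finitely generated subcomodules, smallest subcomodules.
-/

open TensorProduct

namespace Groth.Agent.Lib.Hopf.ComodRing

universe u v w w'

variable {R : Type u} [CommRing R] {C : Type v} [AddCommGroup C] [Module R C]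
  {V : Type w} [AddCommGroup V] [Module R V]

/-- `(id ⊗ φ)` read in `V`. -/
noncomputable def slice (φ : C →ₗ[R] R) : V ⊗[R] C →ₗ[R] V :=
  (TensorProduct.rid R V).toLinearMap ∘ₗ φ.lTensor V

@[simp] lemma slice_tmul (φ : C →ₗ[R] R) (v : V) (c : C) : slice φ (v ⊗ₜ[R] c) = φ c • v := by
  simp [slice]

lemma slice_rTensor {V' : Type w'} [AddCommGroup V'] [Module R V'] (f : V →ₗ[R] V')
    (φ : C →ₗ[R] R) (y : V ⊗[R] C) : slice φ (f.rTensor C y) = f (slice φ y) := by
  induction y using TensorProduct.induction_on with
  | zero => simp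
  | tmul v c => simp
  | add a b ha hb => simp [ha, hb]

/-- The image of `U ⊗ C` in `V ⊗ C`. -/
noncomputable def tensorRight (C : Type v) [AddCommGroup C] [Module R C] (U : Submodule R V) :
    Submodule R (V ⊗[R] C) :=
  LinearMap.range (U.subtype.rTensor C)

lemma tmul_mem_tensorRight {U : Submodule R V} {v : V} (hv : v ∈ U) (c : C) :
    v ⊗ₜ[R] c ∈ tensorRight C U :=
  ⟨⟨v, hv⟩ ⊗ₜ[R] c, by simp⟩

lemma mem_tensorRight_iff (U : Submodule R V) (x : V ⊗[R] C) :
    x ∈ tensorRight C U ↔ U.mkQ.rTensor C x = 0 := by
  have h : Function.Exact (U.subtype.rTensor C) (U.mkQ.rTensor C) :=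
    _root_.rTensor_exact C (LinearMap.exact_subtype_mkQ U) (Submodule.mkQ_surjective U)
  exact (h x).symm

lemma tensorRight_mono {U U' : Submodule R V} (h : U ≤ U') :
    tensorRight C U ≤ tensorRight C U' := by
  rintro _ ⟨y, rfl⟩
  induction y using TensorProduct.induction_on with
  | zero => simp
  | tmul a c => simpa using tmul_mem_tensorRight (h a.2) c
  | add a b ha hb => rw [map_add]; exact add_mem ha hb

lemma slice_mem_of_mem {U : Submodule R V} {x : V ⊗[R] C} (hx : x ∈ tensorRight C U)
    (φ : C →ₗ[R] R) : slice φ x ∈ U := by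
  obtain ⟨y, rfl⟩ := hx
  rw [slice_rTensor]
  exact (slice φ y).2

lemma exists_fg_mem_tensorRight (x : V ⊗[R] C) :
    ∃ U : Submodule R V, U.FG ∧ x ∈ tensorRight C U := by
  induction x using TensorProduct.induction_on with
  | zero => exact ⟨⊥, Submodule.fg_bot, zero_mem _⟩
  | tmul v c =>
      exact ⟨Submodule.span R {v}, Submodule.fg_span_singleton v,
        tmul_mem_tensorRight (Submodule.mem_span_singleton_self v) c⟩
  | add a b ha hb =>
      obtain ⟨U, hU, ha⟩ := ha
      obtain ⟨U', hU', hb⟩ := hb
      exact ⟨U ⊔ U', hU.sup hU', add_mem (tensorRight_mono le_sup_left ha)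
        (tensorRight_mono le_sup_right hb)⟩

lemma exists_fg_forall_mem_tensorRight (s : Finset (V ⊗[R] C)) :
    ∃ U : Submodule R V, U.FG ∧ ∀ x ∈ s, x ∈ tensorRight C U := by
  classical
  induction s using Finset.induction with
  | empty => exact ⟨⊥, Submodule.fg_bot, by simp⟩
  | insert a s _ ih =>
      obtain ⟨U, hU, h⟩ := ih
      obtain ⟨U', hU', h'⟩ := exists_fg_mem_tensorRight a
      refine ⟨U ⊔ U', hU.sup hU', ?_⟩
      intro x hx
      rcases Finset.mem_insert.1 hx with rfl | hx
      · exact tensorRight_mono le_sup_right h'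
      · exact tensorRight_mono le_sup_left (h x hx)

section Projective

variable [Module.Projective R C]

lemma exists_coords (x : V ⊗[R] C) :
    ∃ (t : Finset C) (ψ : C → (C →ₗ[R] R)), x = ∑ i ∈ t, slice (ψ i) x ⊗ₜ[R] i := by
  classical
  obtain ⟨s, hs⟩ := Module.projective_def.1 (inferInstance : Module.Projective R C)
  let π : (C →₀ R) →ₗ[R] C := Finsupp.linearCombination R id
  let e := TensorProduct.finsuppScalarRight R R V C
  have key : ∀ y : V ⊗[R] C, π.lTensor V (s.lTensor V y) = y := by
    intro y
    induction y using TensorProduct.induction_on with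
    | zero => simp
    | tmul v c => simp [π, hs c]
    | add a b ha hb => simp [ha, hb]
  have coord : ∀ (y : V ⊗[R] C) (i : C),
      e (s.lTensor V y) i = slice ((Finsupp.lapply i).comp s) y := by
    intro y i
    induction y using TensorProduct.induction_on with
    | zero => simp
    | tmul v c => simp [e]
    | add a b ha hb => simp [ha, hb]
  refine ⟨(e (s.lTensor V x)).support, fun i => (Finsupp.lapply i).comp s, ?_⟩
  conv_lhs => rw [← key x, ← e.symm_apply_apply (s.lTensor V x),
    ← Finsupp.sum_single (e (s.lTensor V x)), map_finsuppSum, map_finsuppSum]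
  refine Finset.sum_congr rfl fun i _ => ?_
  simp only [coord, e, TensorProduct.finsuppScalarRight_symm_apply_single]
  simp [π]

lemma mem_tensorRight_of_slices {U : Submodule R V} {x : V ⊗[R] C}
    (h : ∀ φ : C →ₗ[R] R, slice φ x ∈ U) : x ∈ tensorRight C U := by
  obtain ⟨t, ψ, hx⟩ := exists_coords x
  rw [hx]
  exact Submodule.sum_mem _ fun i _ => tmul_mem_tensorRight (h _) i

lemma mem_tensorRight_iff_slices {U : Submodule R V} {x : V ⊗[R] C} :
    x ∈ tensorRight C U ↔ ∀ φ : C →ₗ[R] R, slice φ x ∈ U :=
  ⟨fun h φ => slice_mem_of_mem h φ, mem_tensorRight_of_slices⟩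

/-- Over a projective `C` there is a smallest submodule `U` with `x ∈ U ⊗ C`. -/
lemma exists_content (x : V ⊗[R] C) :
    ∃ U : Submodule R V, U.FG ∧ x ∈ tensorRight C U ∧
      ∀ U', x ∈ tensorRight C U' → U ≤ U' := by
  classical
  obtain ⟨t, ψ, hx⟩ := exists_coords x
  refine ⟨Submodule.span R ((t.image fun i => slice (ψ i) x : Finset V) : Set V), ⟨_, rfl⟩, ?_, ?_⟩
  · refine (congrArg (· ∈ tensorRight C _) hx).mpr (Submodule.sum_mem _ fun i hi => ?_)
    refine tmul_mem_tensorRight ?_ i
    refine Submodule.subset_span ?_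
    exact Finset.mem_coe.2 (Finset.mem_image_of_mem _ hi)
  · intro U' hU'
    rw [Submodule.span_le]
    intro v hv
    obtain ⟨i, _, rfl⟩ := Finset.mem_image.1 (Finset.mem_coe.1 hv)
    exact slice_mem_of_mem hU' _

end Projective

section Comod

variable [Coalgebra R C] [HopfRep.Comod R C V]

open HopfRep

lemma isSubcomod_iff {W : Submodule R V} :
    IsSubcomod (k := R) (A := C) W ↔
      ∀ w ∈ W, Comod.coact (k := R) (A := C) w ∈ tensorRight C W := Iff.rfl

lemma counit_slice_coact (v : V) :
    slice (CoalgebraStruct.counit (R := R) (A := C)) (Comod.coact (k := R) (A := C) v) = v := by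
  have h := congr($(Comod.counit_comp (k := R) (A := C) (V := V)) v)
  simp only [LinearMap.comp_apply, LinearMap.flip_apply, TensorProduct.mk_apply] at h
  simp [slice, h]

lemma mem_of_coact_mem {U : Submodule R V} {v : V}
    (h : Comod.coact (k := R) (A := C) v ∈ tensorRight C U) : v ∈ U := by
  have := slice_mem_of_mem h (CoalgebraStruct.counit (R := R) (A := C))
  rwa [counit_slice_coact] at this

variable (C) in
/-- The largest subcomodule contained in a submodule (for flat `C`). -/
noncomputable def core (U : Submodule R V) : Submodule R V :=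
  (tensorRight C U).comap (Comod.coact (k := R) (A := C))

lemma core_le (U : Submodule R V) : core C U ≤ U := fun _ hv => mem_of_coact_mem hv

lemma le_core {U W : Submodule R V} (hW : IsSubcomod (k := R) (A := C) W) (h : W ≤ U) :
    W ≤ core C U := fun w hw => tensorRight_mono h (hW w hw)

lemma core_isSubcomod [Module.Flat R C] (U : Submodule R V) :
    IsSubcomod (k := R) (A := C) (core C U) := by
  intro w hw
  let q : V →ₗ[R] (V ⧸ U) ⊗[R] C := U.mkQ.rTensor C ∘ₗ Comod.coact (k := R) (A := C)
  have hker : LinearMap.ker q = core C U := by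
    ext v
    simp [q, core, mem_tensorRight_iff]
  have hex : Function.Exact ((LinearMap.ker q).subtype.rTensor C) (q.rTensor C) :=
    Module.Flat.rTensor_exact C (LinearMap.exact_subtype_ker_map q)
  have : q.rTensor C (Comod.coact (k := R) (A := C) w) = 0 := by
    have h1 := congr($(Comod.coassoc (k := R) (A := C) (V := V)) w)
    simp only [LinearMap.comp_apply, LinearEquiv.coe_coe] at h1
    have h2 : ∀ y : (V ⊗[R] C) ⊗[R] C,
        TensorProduct.assoc R (V ⧸ U) C C ((U.mkQ.rTensor C).rTensor C y) =
          U.mkQ.rTensor (C ⊗[R] C) (TensorProduct.assoc R V C C y) := by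
      intro y
      induction y using TensorProduct.induction_on with
      | zero => simp
      | tmul a c =>
          induction a using TensorProduct.induction_on with
          | zero => simp
          | tmul v c' => simp
          | add a b ha hb => simp_all [TensorProduct.add_tmul]
      | add a b ha hb => simp_all
    apply (TensorProduct.assoc R (V ⧸ U) C C).injective
    rw [map_zero]
    simp only [q, LinearMap.rTensor_comp, LinearMap.comp_apply]
    rw [h2, h1, ← LinearMap.comp_apply, LinearMap.rTensor_comp_lTensor,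
      ← LinearMap.lTensor_comp_rTensor, LinearMap.comp_apply,
      (mem_tensorRight_iff U _).1 hw, map_zero]
  obtain ⟨y, hy⟩ := (hex _).1 this
  rw [← hker]
  exact ⟨y, hy⟩

/-- A finitely generated submodule is contained in a finitely generated subcomodule when the base
is Noetherian and the coalgebra flat. -/
lemma exists_fg_subcomod [IsNoetherianRing R] [Module.Flat R C] (M : Submodule R V) (hM : M.FG) :
    ∃ W : Submodule R V, IsSubcomod (k := R) (A := C) W ∧ M ≤ W ∧ W.FG := by
  classical
  obtain ⟨s, rfl⟩ := hM
  obtain ⟨U, hU, h⟩ := exists_fg_forall_mem_tensorRight (s.image (Comod.coact (k := R) (A := C)))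
  refine ⟨core C U, core_isSubcomod U, ?_, ?_⟩
  · rw [Submodule.span_le]
    intro v hv
    exact h _ (Finset.mem_image_of_mem _ (Finset.mem_coe.1 hv))
  · exact hU.of_le (core_le U)

/-- If contents exist, there is a smallest subcomodule containing a given submodule. -/
lemma exists_smallest_of_content [Module.Flat R C]
    (hc : ∀ x : V ⊗[R] C, ∃ U : Submodule R V, U.FG ∧ x ∈ tensorRight C U ∧
      ∀ U', x ∈ tensorRight C U' → U ≤ U')
    (M : Submodule R V) :
    ∃ W : Submodule R V, IsSubcomod (k := R) (A := C) W ∧ M ≤ W ∧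
      (∀ W' : Submodule R V, IsSubcomod (k := R) (A := C) W' → M ≤ W' → W ≤ W') ∧
      (M.FG → W.FG) := by
  classical
  choose U hfg hmem hmin using hc
  let T := fun S : Set V => ⨆ m ∈ S, U (Comod.coact (k := R) (A := C) m)
  have hmin' : ∀ (S : Set V) (W' : Submodule R V), IsSubcomod (k := R) (A := C) W' →
      S ⊆ W' → T S ≤ W' := fun S W' hW' hS =>
    iSup₂_le fun m hm => hmin _ _ (hW' m (hS hm))
  have hcore : ∀ S : Set V, Submodule.span R S ≤ core C (T S) := fun S => by
    rw [Submodule.span_le]
    intro m hm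
    exact tensorRight_mono (le_iSup₂ (f := fun a (_ : a ∈ S) => U (Comod.coact (k := R) (A := C) a)) m hm) (hmem _)
  have heq : ∀ S : Set V, core C (T S) = T S := fun S => le_antisymm (core_le _)
    (hmin' S _ (core_isSubcomod _) fun m hm => hcore S (Submodule.subset_span hm))
  have hsub : ∀ S : Set V, IsSubcomod (k := R) (A := C) (T S) := fun S => by
    rw [← heq S]; exact core_isSubcomod _
  have hle : ∀ S : Set V, Submodule.span R S ≤ T S := fun S => (hcore S).trans (heq S).le
  refine ⟨T M, hsub _, fun m hm => hle _ (Submodule.subset_span hm),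
    fun W' hW' hM => hmin' _ _ hW' hM, ?_⟩
  intro hM
  obtain ⟨s, hs⟩ := hM
  have : T M = T (s : Set V) := by
    refine le_antisymm (hmin' _ _ (hsub _) ?_) (hmin' _ _ (hsub _) ?_)
    · intro m hm; exact hle _ (hs ▸ hm)
    · intro m hm; exact hle _ (Submodule.subset_span (hs ▸ Submodule.subset_span hm))
  rw [this]
  exact Submodule.fg_biSup s _ fun i _ => hfg _

end Comod

end Groth.Agent.Lib.Hopf.ComodRing
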