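import Groth.Prelude.Def_SGA3
import Groth.Agent.Lib.Hopf.ComodRing
import Mathlib.RingTheory.HopfAlgebra.Convolution
import Mathlib.LinearAlgebra.Matrix.Determinant.Basic
import Mathlib.LinearAlgebra.Matrix.Adjugate
import Mathlib.RingTheory.Finiteness.Projective

/-!
Matrix coefficients of comodules, corepresentation matrices, the Hopf subalgebra they generate.
-/

open TensorProduct

namespace Groth.Agent.Lib.Hopf.Coeff

universe u v w

open Groth.Agent.Lib.Hopf.ComodRing HopfRep

/-- A matrix corepresentation. -/
def IsCorep (R : Type u) {A : Type v} [CommRing R] [CommRing A] [Bialgebra R A] {d : Type w}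
    [Fintype d] [DecidableEq d] (a : Matrix d d A) : Prop :=
  (∀ i j, CoalgebraStruct.comul (R := R) (a i j) = ∑ l, a i l ⊗ₜ[R] a l j) ∧
    ∀ i j, CoalgebraStruct.counit (R := R) (a i j) = if i = j then 1 else 0

section Bialgebra

variable {R : Type u} {A : Type v} [CommRing R] [CommRing A] [Bialgebra R A]
  {V : Type w} [AddCommGroup V] [Module R V] [Comod R A V]

variable (A) in
/-- The coaction on `R^n` obtained from a retract `V` by the trivial coaction on the complement. -/
noncomputable def extendCoact {n : ℕ} (i : V →ₗ[R] (Fin n → R)) (p : (Fin n → R) →ₗ[R] V) :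
    (Fin n → R) →ₗ[R] (Fin n → R) ⊗[R] A :=
  i.rTensor A ∘ₗ Comod.coact (k := R) (A := A) ∘ₗ p +
    (TensorProduct.mk R (Fin n → R) A).flip 1 ∘ₗ (LinearMap.id - i ∘ₗ p)

lemma exists_coeffs_free {n : ℕ} (δ : (Fin n → R) →ₗ[R] (Fin n → R) ⊗[R] A)
    (hassoc : ∀ x, TensorProduct.assoc R (Fin n → R) A A (δ.rTensor A (δ x)) =
      (CoalgebraStruct.comul (R := R) (A := A)).lTensor (Fin n → R) (δ x))
    (hcounit : ∀ x, slice (CoalgebraStruct.counit (R := R) (A := A)) (δ x) = x) :
    ∃ a : Matrix (Fin n) (Fin n) A, IsCorep R a ∧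
      ∀ j, δ (Pi.single j 1) = ∑ i, Pi.single i (1 : R) ⊗ₜ[R] a i j := by
  classical
  let co : Fin n → ((Fin n → R) ⊗[R] A →ₗ[R] A) := fun i =>
    (TensorProduct.lid R A).toLinearMap ∘ₗ (LinearMap.proj i).rTensor A
  have hco : ∀ y : (Fin n → R) ⊗[R] A, y = ∑ i, Pi.single i (1 : R) ⊗ₜ[R] co i y := by
    intro y
    induction y using TensorProduct.induction_on with
    | zero => simp
    | tmul v c =>
        conv_lhs => rw [← Finset.univ_sum_single v, TensorProduct.sum_tmul]
        refine Finset.sum_congr rfl fun i _ => ?_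
        simp only [co, LinearMap.comp_apply, LinearMap.rTensor_tmul, LinearMap.proj_apply,
          LinearEquiv.coe_coe, TensorProduct.lid_tmul, ← TensorProduct.smul_tmul]
        congr 1
        rw [← Pi.single_smul, smul_eq_mul, mul_one]
    | add a b ha hb =>
        simp only [map_add, TensorProduct.tmul_add, Finset.sum_add_distrib, ← ha, ← hb]
  let a : Matrix (Fin n) (Fin n) A := fun i j => co i (δ (Pi.single j 1))
  have he : ∀ j, δ (Pi.single j 1) = ∑ i, Pi.single i (1 : R) ⊗ₜ[R] a i j := fun j => hco _
  refine ⟨a, ⟨?_, ?_⟩, he⟩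
  · intro i j
    have h := hassoc (Pi.single j 1)
    rw [he j] at h
    simp only [map_sum, LinearMap.rTensor_tmul, LinearMap.lTensor_tmul, he,
      TensorProduct.sum_tmul, TensorProduct.assoc_tmul] at h
    have h2 := congrArg (fun y => TensorProduct.lid R (A ⊗[R] A)
      ((LinearMap.proj i).rTensor (A ⊗[R] A) y)) h
    simpa [map_sum, Pi.single_apply] using h2.symm
  · intro i j
    have h := congrFun (hcounit (Pi.single j 1)) i
    rw [he j, map_sum] at h
    simpa [Pi.single_apply] using h

/-- A finite projective comodule gives a corepresentation matrix whose entries span all the matrix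
coefficients. -/
lemma exists_corep [Module.Finite R V] [Module.Projective R V] :
    ∃ (n : ℕ) (a : Matrix (Fin n) (Fin n) A), IsCorep R a ∧
      ∀ (φ : V →ₗ[R] R) (v : V),
        TensorProduct.lid R A (φ.rTensor A (Comod.coact (k := R) (A := A) v)) ∈
          Submodule.span R (Set.range fun p : Fin n × Fin n => a p.1 p.2) := by
  classical
  obtain ⟨n, p, i, hp, hi, hpi⟩ := Module.Finite.exists_comp_eq_id_of_projective R V
  have hpi' : ∀ v, p (i v) = v := fun v => LinearMap.congr_fun hpi v
  have happ : ∀ x, extendCoact A i p x =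
      i.rTensor A (Comod.coact (k := R) (A := A) (p x)) + (x - i (p x)) ⊗ₜ[R] (1 : A) :=
    fun x => by simp [extendCoact, TensorProduct.sub_tmul]
  have hpd : ∀ x, p.rTensor A (extendCoact A i p x) = Comod.coact (k := R) (A := A) (p x) := by
    intro x
    rw [happ, map_add, ← LinearMap.comp_apply, ← LinearMap.rTensor_comp, hpi]
    simp [hpi']
  have hqd : ∀ x, ((LinearMap.id - i ∘ₗ p).rTensor A) (extendCoact A i p x) =
      (x - i (p x)) ⊗ₜ[R] (1 : A) := by
    intro x
    have h0 : (LinearMap.id - i ∘ₗ p) ∘ₗ i = 0 := by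
      ext v; simp [hpi']
    rw [happ, map_add, ← LinearMap.comp_apply, ← LinearMap.rTensor_comp, h0]
    simp [hpi']
  have hcounit : ∀ x, slice (CoalgebraStruct.counit (R := R) (A := A)) (extendCoact A i p x) = x := by
    intro x
    rw [happ, map_add, slice_rTensor, counit_slice_coact]
    simp
  have hassoc : ∀ x, TensorProduct.assoc R (Fin n → R) A A
      ((extendCoact A i p).rTensor A (extendCoact A i p x)) =
      (CoalgebraStruct.comul (R := R) (A := A)).lTensor (Fin n → R) (extendCoact A i p x) := by
    intro x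
    have hr : (extendCoact A i p).rTensor A =
        (i.rTensor A).rTensor A ∘ₗ (Comod.coact (k := R) (A := A)).rTensor A ∘ₗ p.rTensor A +
        ((TensorProduct.mk R (Fin n → R) A).flip 1).rTensor A ∘ₗ
          (LinearMap.id - i ∘ₗ p).rTensor A := by
      simp [extendCoact, LinearMap.rTensor_add, LinearMap.rTensor_comp]
    have hnat : ∀ y : (V ⊗[R] A) ⊗[R] A, TensorProduct.assoc R (Fin n → R) A A
        ((i.rTensor A).rTensor A y) = i.rTensor (A ⊗[R] A) (TensorProduct.assoc R V A A y) := by
      intro y
      induction y using TensorProduct.induction_on with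
      | zero => simp
      | tmul a c =>
          induction a using TensorProduct.induction_on with
          | zero => simp
          | tmul v c' => simp
          | add a b ha hb => simp_all [TensorProduct.add_tmul]
      | add a b ha hb => simp_all
    have hc := congr($(Comod.coassoc (k := R) (A := A) (V := V)) (p x))
    simp only [LinearMap.comp_apply, LinearEquiv.coe_coe] at hc
    rw [hr]
    simp only [LinearMap.add_apply, LinearMap.comp_apply, hpd, hqd, map_add]
    rw [hnat, hc, happ, map_add, ← LinearMap.comp_apply (i.rTensor (A ⊗[R] A)),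
      LinearMap.rTensor_comp_lTensor, ← LinearMap.lTensor_comp_rTensor, LinearMap.comp_apply]
    simp [Bialgebra.comul_one, Algebra.TensorProduct.one_def, TensorProduct.sub_tmul]
  obtain ⟨a, ha, he⟩ := exists_coeffs_free (extendCoact A i p) hassoc hcounit
  refine ⟨n, a, ha, fun φ v => ?_⟩
  have hv : Comod.coact (k := R) (A := A) v = p.rTensor A (extendCoact A i p (i v)) := by
    rw [hpd, hpi']
  rw [hv, ← LinearMap.comp_apply (φ.rTensor A), ← LinearMap.rTensor_comp]
  rw [show i v = ∑ j, (i v j) • Pi.single (M := fun _ : Fin n => R) j 1 from pi_eq_sum_univ' (i v)]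
  simp only [map_sum, map_smul, he, LinearMap.rTensor_tmul, TensorProduct.lid_tmul]
  refine Submodule.sum_mem _ fun j _ => Submodule.smul_mem _ _ ?_
  refine Submodule.sum_mem _ fun l _ => Submodule.smul_mem _ _ ?_
  exact Submodule.subset_span ⟨(l, j), rfl⟩

/-- If `j : V → A` is a comodule map from a finite projective comodule then its range lies in the
span of the entries of a corepresentation matrix. -/
lemma exists_corep_range_le [Module.Finite R V] [Module.Projective R V] (j : V →ₗ[R] A)
    (hj : CoalgebraStruct.comul (R := R) (A := A) ∘ₗ j =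
      j.rTensor A ∘ₗ Comod.coact (k := R) (A := A)) :
    ∃ (n : ℕ) (a : Matrix (Fin n) (Fin n) A), IsCorep R a ∧
      LinearMap.range j ≤ Submodule.span R (Set.range fun p : Fin n × Fin n => a p.1 p.2) := by
  obtain ⟨n, a, ha, h⟩ := exists_corep (R := R) (A := A) (V := V)
  refine ⟨n, a, ha, ?_⟩
  rintro _ ⟨v, rfl⟩
  have h2 := h (CoalgebraStruct.counit (R := R) (A := A) ∘ₗ j) v
  rwa [LinearMap.rTensor_comp, LinearMap.comp_apply, ← LinearMap.comp_apply (j.rTensor A), ← hj,
    LinearMap.comp_apply, Coalgebra.rTensor_counit_comul, TensorProduct.lid_tmul, one_smul] at h2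

/-- The comodule structure on a subcomodule of the regular comodule over a flat coalgebra. -/
lemma comul_mem_tensorRight {W : Submodule R A} (hW : IsSubcomod (k := R) (A := A) W) {w : A}
    (hw : w ∈ W) : CoalgebraStruct.comul (R := R) (A := A) w ∈ tensorRight A W := hW w hw

end Bialgebra

section Hopf

variable {R : Type u} {A : Type v} [CommRing R] [CommRing A] [HopfAlgebra R A]
  {d : Type w} [Fintype d] [DecidableEq d] {a : Matrix d d A}

lemma mul_map_antipode (ha : IsCorep R a) :
    a * a.map (HopfAlgebraStruct.antipode (R := R) (A := A)) = 1 := by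
  ext i j
  have h := HopfAlgebra.mul_antipode_lTensor_comul_apply (R := R) (a i j)
  rw [ha.1, ha.2] at h
  simp only [map_sum, LinearMap.lTensor_tmul, LinearMap.mul'_apply] at h
  simp only [Matrix.mul_apply, Matrix.map_apply, h, Matrix.one_apply]
  split_ifs <;> simp

/-- The inverse of the determinant. -/
noncomputable def detInv (R : Type u) [CommRing R] [HopfAlgebra R A] (a : Matrix d d A) : A :=
  (a.map (HopfAlgebraStruct.antipode (R := R) (A := A))).det

lemma detInv_mul (ha : IsCorep R a) : detInv R a * a.det = 1 := by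
  rw [detInv, mul_comm, ← Matrix.det_mul, mul_map_antipode ha, Matrix.det_one]

lemma map_antipode_eq (ha : IsCorep R a) :
    a.map (HopfAlgebraStruct.antipode (R := R) (A := A)) = detInv R a • a.adjugate := by
  have h : detInv R a • (a.adjugate * a) = 1 := by
    rw [Matrix.adjugate_mul, smul_smul, detInv_mul ha, one_smul]
  conv_lhs => rw [← Matrix.one_mul (a.map _), ← h]
  rw [Matrix.smul_mul, Matrix.mul_assoc, mul_map_antipode ha, Matrix.mul_one]

lemma comul_det (ha : IsCorep R a) :
    Bialgebra.comulAlgHom R A a.det = a.det ⊗ₜ[R] a.det := by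
  have h : a.map (Bialgebra.comulAlgHom R A) =
      (Algebra.TensorProduct.includeLeft (R := R) (S := R) (A := A) (B := A)).mapMatrix a *
        (Algebra.TensorProduct.includeRight (R := R) (A := A) (B := A)).mapMatrix a := by
    ext i j
    simp [Matrix.mul_apply, ha.1]
  rw [AlgHom.map_det, AlgHom.mapMatrix_apply, h, Matrix.det_mul, ← AlgHom.map_det,
    ← AlgHom.map_det]
  simp

lemma comul_detInv (ha : IsCorep R a) :
    Bialgebra.comulAlgHom R A (detInv R a) = detInv R a ⊗ₜ[R] detInv R a := by
  refine left_inv_eq_right_inv (a := Bialgebra.comulAlgHom R A a.det) ?_ ?_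
  · rw [← map_mul, detInv_mul ha, map_one]
  · rw [comul_det ha, Algebra.TensorProduct.tmul_mul_tmul, mul_comm a.det, detInv_mul ha]
    rfl

/-- The subalgebra generated by the entries and the inverse of the determinant. -/
noncomputable def coeffAlg (R : Type u) [CommRing R] [HopfAlgebra R A] (a : Matrix d d A) :
    Subalgebra R A :=
  Algebra.adjoin R (Set.range (fun p : d × d => a p.1 p.2) ∪ {detInv R a})

lemma coeffAlg_fg : (coeffAlg R a).FG :=
  Subalgebra.fg_def.2 ⟨_, (Set.finite_range _).union (Set.finite_singleton _), rfl⟩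

lemma entry_mem_coeffAlg (i j : d) : a i j ∈ coeffAlg R a :=
  Algebra.subset_adjoin (Or.inl ⟨(i, j), rfl⟩)

lemma detInv_mem_coeffAlg : detInv R a ∈ coeffAlg R a :=
  Algebra.subset_adjoin (Or.inr rfl)

lemma span_entries_le_coeffAlg :
    Submodule.span R (Set.range fun p : d × d => a p.1 p.2) ≤ (coeffAlg R a).toSubmodule := by
  rw [Submodule.span_le]
  rintro _ ⟨p, rfl⟩
  exact entry_mem_coeffAlg _ _

end Hopf

section HopfSame

variable {R : Type u} {A : Type u} [CommRing R] [CommRing A] [HopfAlgebra R A]
  {d : Type w} [Fintype d] [DecidableEq d] {a : Matrix d d A}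

lemma isHopfSubalgebra_coeffAlg (ha : IsCorep R a) :
    SGA3.IsHopfSubalgebra R A (coeffAlg R a) := by
  set B := coeffAlg R a with hB
  refine ⟨fun b hb => ?_, fun b hb => ?_⟩
  · let T : Subalgebra R (A ⊗[R] A) := (Algebra.TensorProduct.map B.val B.val).range
    have hsub : B ≤ T.comap (Bialgebra.comulAlgHom R A) := by
      rw [hB, coeffAlg, Algebra.adjoin_le_iff]
      rintro x (⟨⟨i, j⟩, rfl⟩ | hx)
      · show Bialgebra.comulAlgHom R A (a i j) ∈ T
        rw [Bialgebra.comulAlgHom_apply, ha.1]
        refine Subalgebra.sum_mem _ fun l _ => ?_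
        exact ⟨⟨a i l, entry_mem_coeffAlg i l⟩ ⊗ₜ ⟨a l j, entry_mem_coeffAlg l j⟩, rfl⟩
      · rw [Set.mem_singleton_iff] at hx
        subst hx
        show Bialgebra.comulAlgHom R A _ ∈ T
        rw [comul_detInv ha]
        exact ⟨⟨_, detInv_mem_coeffAlg⟩ ⊗ₜ ⟨_, detInv_mem_coeffAlg⟩, rfl⟩
    obtain ⟨y, hy⟩ := hsub hb
    exact ⟨y, hy⟩
  · have hsub : B ≤ B.comap (HopfAlgebra.antipodeAlgHom R A) := by
      rw [hB, coeffAlg, Algebra.adjoin_le_iff]
      rintro x (⟨⟨i, j⟩, rfl⟩ | hx)
      · show HopfAlgebra.antipodeAlgHom R A (a i j) ∈ coeffAlg R a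
        have h := congrFun (congrFun (map_antipode_eq ha) i) j
        simp only [Matrix.map_apply, Matrix.smul_apply, smul_eq_mul] at h
        rw [show HopfAlgebra.antipodeAlgHom R A (a i j) = _ from h]
        refine mul_mem detInv_mem_coeffAlg ?_
        let a' : Matrix d d B := fun k l => ⟨a k l, entry_mem_coeffAlg k l⟩
        have : a.adjugate = B.val.mapMatrix a'.adjugate := by
          rw [AlgHom.map_adjugate]; rfl
        rw [this]
        exact (a'.adjugate i j).2
      · rw [Set.mem_singleton_iff] at hx
        subst hx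
        show HopfAlgebra.antipodeAlgHom R A (detInv R a) ∈ coeffAlg R a
        have h1 : HopfAlgebra.antipodeAlgHom R A a.det = detInv R a := by
          rw [AlgHom.map_det]; rfl
        have h2 : HopfAlgebra.antipodeAlgHom R A (detInv R a) = a.det := by
          refine left_inv_eq_right_inv (a := detInv R a) ?_ (detInv_mul ha)
          rw [← h1, ← map_mul, h1, detInv_mul ha, map_one]
        rw [h2]
        let a' : Matrix d d B := fun k l => ⟨a k l, entry_mem_coeffAlg k l⟩
        have : a.det = B.val a'.det := by rw [AlgHom.map_det]; rfl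
        rw [this]
        exact a'.det.2
    exact hsub hb

end HopfSame

end Groth.Agent.Lib.Hopf.Coeff
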