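import Groth.Agent.Lib.Hopf.SubHopf
import Mathlib.RingTheory.Flat.Stability

/-!
Every finite comodule over a flat coalgebra (Noetherian base) is a quotient of a finite comodule
which embeds in a flat module.
-/

open TensorProduct

namespace Groth.Agent.Lib.Hopf.Cofree

universe u v

open Groth.Agent.Lib.Hopf.ComodRing Groth.Agent.Lib.Hopf.SubHopf HopfRep

variable {R : Type u} [CommRing R] {C : Type u} [AddCommGroup C] [Module R C] [Coalgebra R C]

/-- The cofree coaction. -/
noncomputable def cofreeCoact (R : Type u) [CommRing R] (C : Type u) [AddCommGroup C] [Module R C]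
    [Coalgebra R C] (P : Type v) [AddCommGroup P] [Module R P] :
    P ⊗[R] C →ₗ[R] (P ⊗[R] C) ⊗[R] C :=
  (TensorProduct.assoc R P C C).symm.toLinearMap ∘ₗ
    (CoalgebraStruct.comul (R := R) (A := C)).lTensor P

lemma cofreeCoact_tmul {P : Type v} [AddCommGroup P] [Module R P] (p : P) (c : C) :
    cofreeCoact R C P (p ⊗ₜ[R] c) =
      (TensorProduct.mk R P C p).rTensor C (CoalgebraStruct.comul (R := R) (A := C) c) := by
  simp only [cofreeCoact, LinearMap.comp_apply, LinearEquiv.coe_coe, LinearMap.lTensor_tmul]
  induction CoalgebraStruct.comul (R := R) (A := C) c using TensorProduct.induction_on with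
  | zero => simp
  | tmul a b => simp
  | add a b ha hb => simp [TensorProduct.tmul_add, ha, hb]

/-- The cofree comodule on a module. -/
@[reducible] noncomputable def cofree (R : Type u) [CommRing R] (C : Type u) [AddCommGroup C]
    [Module R C] [Coalgebra R C] (P : Type v) [AddCommGroup P] [Module R P] :
    Comod R C (P ⊗[R] C) where
  coact := cofreeCoact R C P
  coassoc := by
    refine TensorProduct.ext' fun p c => ?_
    have hδ : cofreeCoact R C P ∘ₗ TensorProduct.mk R P C p =
        (TensorProduct.mk R P C p).rTensor C ∘ₗ CoalgebraStruct.comul (R := R) (A := C) :=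
      LinearMap.ext fun x => cofreeCoact_tmul p x
    simp only [LinearMap.comp_apply, LinearEquiv.coe_coe, cofreeCoact_tmul]
    rw [← LinearMap.comp_apply ((cofreeCoact R C P).rTensor C), ← LinearMap.rTensor_comp, hδ,
      LinearMap.rTensor_comp, LinearMap.comp_apply]
    have hn : ∀ y : (C ⊗[R] C) ⊗[R] C,
        TensorProduct.assoc R (P ⊗[R] C) C C (((TensorProduct.mk R P C p).rTensor C).rTensor C y) =
          (TensorProduct.mk R P C p).rTensor (C ⊗[R] C) (TensorProduct.assoc R C C C y) := by
      intro y
      induction y using TensorProduct.induction_on with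
      | zero => simp
      | tmul a b =>
          induction a using TensorProduct.induction_on with
          | zero => simp
          | tmul x x' => simp
          | add a a' ha hb => simp_all [TensorProduct.add_tmul]
      | add a b ha hb => simp_all
    rw [hn, Coalgebra.coassoc_apply, ← LinearMap.comp_apply, LinearMap.rTensor_comp_lTensor,
      ← LinearMap.lTensor_comp_rTensor, LinearMap.comp_apply]
  counit_comp := by
    refine TensorProduct.ext' fun p c => ?_
    simp only [LinearMap.comp_apply, cofreeCoact_tmul, LinearMap.flip_apply, TensorProduct.mk_apply]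
    rw [← LinearMap.comp_apply, LinearMap.lTensor_comp_rTensor, ← LinearMap.rTensor_comp_lTensor,
      LinearMap.comp_apply, Coalgebra.lTensor_counit_comul]
    simp

lemma cofreeCoact_rTensor {P Q : Type v} [AddCommGroup P] [Module R P] [AddCommGroup Q]
    [Module R Q] (f : P →ₗ[R] Q) (x : P ⊗[R] C) :
    cofreeCoact R C Q (f.rTensor C x) = (f.rTensor C).rTensor C (cofreeCoact R C P x) := by
  induction x using TensorProduct.induction_on with
  | zero => simp
  | tmul p c =>
      rw [LinearMap.rTensor_tmul, cofreeCoact_tmul, cofreeCoact_tmul]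
      induction CoalgebraStruct.comul (R := R) (A := C) c using TensorProduct.induction_on with
      | zero => simp
      | tmul a b => simp
      | add a b ha hb => simp [ha, hb]
  | add a b ha hb => simp [ha, hb]

variable [IsNoetherianRing R] [Module.Flat R C]

omit [IsNoetherianRing R] in
lemma isSubcomod_ker {X Y : Type u} [AddCommGroup X] [Module R X] [Comod R C X] [AddCommGroup Y]
    [Module R Y] (q : X →ₗ[R] Y)
    (h : ∀ x, q x = 0 → q.rTensor C (Comod.coact (k := R) (A := C) x) = 0) :
    IsSubcomod (k := R) (A := C) (LinearMap.ker q) := fun x hx =>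
  ((Module.Flat.rTensor_exact C (LinearMap.exact_subtype_ker_map q)) _).1 (h x hx)

lemma exists_cover_aux {X F : Type u} [AddCommGroup X] [Module R X] [Comod R C X] [AddCommGroup F]
    [Module R F] [Comod R C F] [Module.Finite R F] (P : X →ₗ[R] F ⊗[R] C)
    (hP : Function.Surjective P)
    (hPc : ∀ x, P.rTensor C (Comod.coact (k := R) (A := C) x) = cofreeCoact R C F (P x)) :
    ∃ (W : Type u) (_ : AddCommGroup W) (_ : Module R W) (_ : Comod R C W)
      (ι : W →ₗ[R] X) (r : X →ₗ[R] F),
      Module.Finite R W ∧ Function.Injective ι ∧ Function.Surjective (r ∘ₗ ι) ∧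
        Comod.coact (k := R) (A := C) ∘ₗ (r ∘ₗ ι) =
          (r ∘ₗ ι).rTensor C ∘ₗ Comod.coact (k := R) (A := C) := by
  classical
  let ρ : F →ₗ[R] F ⊗[R] C := Comod.coact (k := R) (A := C)
  have hρρ : ∀ f, cofreeCoact R C F (ρ f) = ρ.rTensor C (ρ f) := by
    intro f
    have hc := congr($(Comod.coassoc (k := R) (A := C) (V := F)) f)
    simp only [LinearMap.comp_apply, LinearEquiv.coe_coe] at hc
    simp only [cofreeCoact, LinearMap.comp_apply, LinearEquiv.coe_coe, ρ, ← hc,
      LinearEquiv.symm_apply_apply]
  let q : X →ₗ[R] (F ⊗[R] C) ⧸ LinearMap.range ρ := (LinearMap.range ρ).mkQ ∘ₗ P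
  let E := LinearMap.ker q
  have hmem : ∀ x ∈ E, ∃ f, ρ f = P x := fun x hx => (Submodule.Quotient.mk_eq_zero _).1 hx
  have hE : IsSubcomod (k := R) (A := C) E := isSubcomod_ker q fun x hx => by
    obtain ⟨f, hf⟩ := hmem x hx
    have h0 : (LinearMap.range ρ).mkQ ∘ₗ ρ = 0 := by
      ext; simp
    rw [show q = (LinearMap.range ρ).mkQ ∘ₗ P from rfl, LinearMap.rTensor_comp, LinearMap.comp_apply,
      hPc, ← hf, hρρ, ← LinearMap.comp_apply, ← LinearMap.rTensor_comp, h0]
    simp
  let _ := subComod hE
  let r : X →ₗ[R] F := slice (CoalgebraStruct.counit (R := R) (A := C)) ∘ₗ P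
  obtain ⟨s, hs⟩ := (inferInstance : Module.Finite R F).fg_top
  have hlift : ∀ f : F, ∃ e : E, r e = f := by
    intro f
    obtain ⟨x, hx⟩ := hP (ρ f)
    refine ⟨⟨x, ?_⟩, ?_⟩
    · show (LinearMap.range ρ).mkQ (P x) = 0
      simp [hx]
    · simp [r, hx, ρ, counit_slice_coact]
  choose lift hl using hlift
  obtain ⟨W, hW, hsW, hfg⟩ := exists_fg_subcomod (C := C) (V := E)
    (Submodule.span R (s.image lift : Set E)) ⟨_, rfl⟩
  let cW := subComod hW
  have : Module.Finite R W := Module.Finite.iff_fg.2 hfg
  let ι := E.subtype ∘ₗ W.subtype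
  have key : ∀ w : W, ρ (r (ι w)) = P (ι w) := by
    intro w
    obtain ⟨f, hf⟩ := hmem (ι w) (w : E).2
    have : r (ι w) = f := by
      show slice _ (P (ι w)) = f
      rw [← hf]; exact counit_slice_coact f
    rw [this, hf]
  refine ⟨W, inferInstance, inferInstance, cW, ι, r, inferInstance,
    E.injective_subtype.comp W.injective_subtype, ?_, ?_⟩
  · rw [← LinearMap.range_eq_top, eq_top_iff, ← hs, Submodule.span_le]
    intro f hf
    exact ⟨⟨lift f, hsW (Submodule.subset_span (by simpa using ⟨f, hf, rfl⟩))⟩, hl f⟩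
  · refine LinearMap.ext fun w => ?_
    have hinj : Function.Injective (ρ.rTensor C) :=
      Module.Flat.rTensor_preserves_injective_linearMap ρ fun a b hab => by
        simpa [ρ, counit_slice_coact] using
          congrArg (slice (CoalgebraStruct.counit (R := R) (A := C))) hab
    apply hinj
    have hρr : ρ ∘ₗ (r ∘ₗ ι) = P ∘ₗ ι := LinearMap.ext key
    have hι : ι.rTensor C (Comod.coact (k := R) (A := C) w) =
        Comod.coact (k := R) (A := C) (ι w) := by
      rw [LinearMap.rTensor_comp, LinearMap.comp_apply,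
        show (Comod.coact (k := R) (A := C) w) = subCoact hW w from rfl, rTensor_subCoact]
      exact rTensor_subCoact hE _
    simp only [LinearMap.comp_apply]
    rw [← LinearMap.comp_apply (ρ.rTensor C) ((r ∘ₗ ι).rTensor C), ← LinearMap.rTensor_comp, hρr,
      LinearMap.rTensor_comp]
    show _ = P.rTensor C (ι.rTensor C _)
    rw [hι, hPc, ← key w, hρρ]

/-- A finite comodule is a quotient of a finite comodule `W` with an injection `ι` into the flat
module `R^n ⊗ C`, the quotient map factoring through `ι`. -/
lemma exists_cover {F : Type u} [AddCommGroup F] [Module R F] [Comod R C F] [Module.Finite R F] :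
    ∃ (n : ℕ) (W : Type u) (_ : AddCommGroup W) (_ : Module R W) (_ : Comod R C W)
      (ι : W →ₗ[R] (Fin n → R) ⊗[R] C) (r : (Fin n → R) ⊗[R] C →ₗ[R] F),
      Module.Finite R W ∧ Function.Injective ι ∧ Function.Surjective (r ∘ₗ ι) ∧
        Comod.coact (k := R) (A := C) ∘ₗ (r ∘ₗ ι) =
          (r ∘ₗ ι).rTensor C ∘ₗ Comod.coact (k := R) (A := C) := by
  obtain ⟨n, π, hπ⟩ := Module.Finite.exists_fin' R F
  let _ := cofree R C (Fin n → R)
  exact ⟨n, exists_cover_aux (π.rTensor C) (LinearMap.rTensor_surjective C hπ)
    fun x => (cofreeCoact_rTensor π x).symm⟩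

end Groth.Agent.Lib.Hopf.Cofree
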