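import Mathlib.RingTheory.RingHom.FaithfullyFlat
import Mathlib.RingTheory.Flat.EquationalCriterion
import Mathlib.Algebra.Category.Ring.FilteredColimits
import Mathlib.Algebra.Category.Ring.Colimits
import Mathlib.CategoryTheory.Limits.ConcreteCategory.Basic

/-!
A filtered colimit of faithfully flat ring maps is faithfully flat.
-/

open CategoryTheory CategoryTheory.Limits

namespace Groth.Agent.Lib.Hopf.ColimFF

universe u

variable {J : Type u} [SmallCategory J] [IsFiltered J] {C A : J ⥤ CommRingCat.{u}} (φ : C ⟶ A)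

omit [IsFiltered J] in
lemma colimMap_ι (j : J) (x : C.obj j) :
    (colimMap φ).hom ((colimit.ι C j).hom x) = (colimit.ι A j).hom ((φ.app j).hom x) := by
  rw [← RingHom.comp_apply, ← CommRingCat.hom_comp, ι_colimMap]
  rfl

lemma exists_reps (F : J ⥤ CommRingCat.{u}) {l : ℕ} (s : Fin l → (colimit F : CommRingCat.{u})) :
    ∃ (j : J) (s' : Fin l → F.obj j), ∀ i, (colimit.ι F j).hom (s' i) = s i := by
  classical
  choose a ha using fun i => Concrete.colimit_exists_rep F (s i)
  choose y hy using ha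
  obtain ⟨j, hj⟩ := IsFiltered.sup_objs_exists (Finset.univ.image a)
  have hm : ∀ i, Nonempty (a i ⟶ j) := fun i => hj (Finset.mem_image_of_mem a (Finset.mem_univ i))
  refine ⟨j, fun i => (F.map (hm i).some).hom (y i), fun i => ?_⟩
  rw [← hy i, ← RingHom.comp_apply, ← CommRingCat.hom_comp, colimit.w]

lemma exists_common {l m : ℕ} (r : Fin l → (colimit C : CommRingCat.{u})) (s : Fin m → (colimit A : CommRingCat.{u})) :
    ∃ (j : J) (r' : Fin l → C.obj j) (s' : Fin m → A.obj j),
      (∀ i, (colimit.ι C j).hom (r' i) = r i) ∧ (∀ i, (colimit.ι A j).hom (s' i) = s i) := by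
  obtain ⟨j₁, r', hr⟩ := exists_reps C r
  obtain ⟨j₂, s', hs⟩ := exists_reps A s
  refine ⟨IsFiltered.max j₁ j₂, fun i => (C.map (IsFiltered.leftToMax j₁ j₂)).hom (r' i),
    fun i => (A.map (IsFiltered.rightToMax j₁ j₂)).hom (s' i), fun i => ?_, fun i => ?_⟩
  · rw [← hr i, ← RingHom.comp_apply, ← CommRingCat.hom_comp, colimit.w]
  · rw [← hs i, ← RingHom.comp_apply, ← CommRingCat.hom_comp, colimit.w]

lemma sum_eq_at_stage {l : ℕ} (r : Fin l → (colimit C : CommRingCat.{u})) (s : Fin l → (colimit A : CommRingCat.{u})) (z : ℕ)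
    (h : ∑ i, (colimMap φ).hom (r i) * s i = (z : (colimit A : CommRingCat.{u}))) :
    ∃ (j : J) (r' : Fin l → C.obj j) (s' : Fin l → A.obj j),
      (∀ i, (colimit.ι C j).hom (r' i) = r i) ∧ (∀ i, (colimit.ι A j).hom (s' i) = s i) ∧
      ∑ i, (φ.app j).hom (r' i) * s' i = (z : A.obj j) := by
  obtain ⟨j, r', s', hr, hs⟩ := exists_common r s
  have h2 : (colimit.ι A j).hom (∑ i, (φ.app j).hom (r' i) * s' i) =
      (colimit.ι A j).hom (z : A.obj j) := by
    rw [map_natCast, ← h, map_sum]
    refine Finset.sum_congr rfl fun i _ => ?_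
    rw [map_mul, ← colimMap_ι, hr, hs]
  obtain ⟨j', f, g, hfg⟩ := Concrete.colimit_exists_of_rep_eq A _ _ h2
  refine ⟨j', fun i => (C.map f).hom (r' i), fun i => (A.map f).hom (s' i), fun i => ?_,
    fun i => ?_, ?_⟩
  · rw [← hr i, ← RingHom.comp_apply, ← CommRingCat.hom_comp, colimit.w]
  · rw [← hs i, ← RingHom.comp_apply, ← CommRingCat.hom_comp, colimit.w]
  · have hnat : ∀ x, (φ.app j').hom ((C.map f).hom x) = (A.map f).hom ((φ.app j).hom x) :=
      fun x => by
        have h := congrArg (fun q => q.hom x) (φ.naturality f)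
        simpa using h
    simp only [hnat, ← map_mul, ← map_sum]
    exact hfg.trans (map_natCast (A.map g).hom z)

theorem faithfullyFlat_colimMap (h : ∀ j : J, (φ.app j).hom.FaithfullyFlat) :
    (colimMap φ).hom.FaithfullyFlat := by
  let _ := (colimMap φ).hom.toAlgebra
  show Module.FaithfullyFlat (colimit C : CommRingCat.{u}) (colimit A : CommRingCat.{u})
  have : Module.Flat (colimit C : CommRingCat.{u}) (colimit A : CommRingCat.{u}) := by
    refine Module.Flat.of_forall_isTrivialRelation fun {l r s} hrs => ?_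
    have hrs' : ∑ i, (colimMap φ).hom (r i) * s i = ((0 : ℕ) : (colimit A : CommRingCat.{u})) := by
      simpa [RingHom.smul_toAlgebra] using hrs
    obtain ⟨j, r', s', hr, hs, hz⟩ := sum_eq_at_stage φ r s 0 hrs'
    let _ := (φ.app j).hom.toAlgebra
    have : Module.Flat (C.obj j) (A.obj j) := (h j).flat
    have hz' : ∑ i, r' i • s' i = 0 := by simpa [RingHom.smul_toAlgebra] using hz
    obtain ⟨κ, a, y, hy, ha⟩ := Module.Flat.isTrivialRelation_of_sum_smul_eq_zero hz'
    refine ⟨κ, fun i t => (colimit.ι C j).hom (a i t), fun t => (colimit.ι A j).hom (y t),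
      fun i => ?_, fun t => ?_⟩
    · rw [← hs i, hy i, map_sum]
      refine Finset.sum_congr rfl fun t _ => ?_
      show (colimit.ι A j).hom ((φ.app j).hom (a i t) * y t) = _
      rw [map_mul, ← colimMap_ι]
      rfl
    · simp only [← hr, ← map_mul, ← map_sum, ha, map_zero]
  refine ⟨fun {m} hm htop => ?_⟩
  have h1 : (1 : (colimit A : CommRingCat.{u})) ∈
      m • (⊤ : Submodule (colimit C : CommRingCat.{u}) (colimit A : CommRingCat.{u})) := by
    rw [htop]; exact Submodule.mem_top
  obtain ⟨l, r, s, hr, hrs⟩ : ∃ (l : ℕ) (r : Fin l → (colimit C : CommRingCat.{u})) (s : Fin l → (colimit A : CommRingCat.{u})),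
      (∀ i, r i ∈ m) ∧ ∑ i, (colimMap φ).hom (r i) * s i = 1 := by
    generalize (1 : (colimit A : CommRingCat.{u})) = x at h1 ⊢
    induction h1 using Submodule.smul_induction_on' with
    | smul r hr x _ => exact ⟨1, fun _ => r, fun _ => x, fun _ => hr, by simp; rfl⟩
    | add x hx y hy ihx ihy =>
        obtain ⟨l, r, s, hr, hrs⟩ := ihx
        obtain ⟨l', r', s', hr', hrs'⟩ := ihy
        refine ⟨l + l', Fin.append r r', Fin.append s s',
          Fin.addCases (by simpa using hr) (by simpa using hr'), ?_⟩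
        simp [Fin.sum_univ_add, hrs, hrs']
  obtain ⟨j, r', s', hr', hs', hz⟩ := sum_eq_at_stage φ r s 1 (by simpa using hrs)
  let _ := (φ.app j).hom.toAlgebra
  have : Module.FaithfullyFlat (C.obj j) (A.obj j) := h j
  let q : Ideal (C.obj j) := m.comap (colimit.ι C j).hom
  have hq : q ≠ ⊤ := Ideal.comap_ne_top _ hm.ne_top
  apply hq
  rw [← Ideal.comap_map_eq_self_of_faithfullyFlat (B := A.obj j) q, Ideal.eq_top_iff_one,
    Ideal.mem_comap, map_one]
  rw [Nat.cast_one] at hz
  rw [← hz]
  refine Submodule.sum_mem _ fun i _ => Ideal.mul_mem_right _ _ (Ideal.mem_map_of_mem _ ?_)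
  show (colimit.ι C j).hom (r' i) ∈ m
  rw [hr']
  exact hr i

end Groth.Agent.Lib.Hopf.ColimFF
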