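import Groth.Agent.Lib.Hopf.ComodRing
import Mathlib.RingTheory.Flat.FaithfullyFlat.Basic
import Mathlib.RingTheory.TensorProduct.Basic

/-!
Smallest submodules `U` with `x ∈ U ⊗ C` when `C` becomes projective after a faithfully flat
extension.
-/

open TensorProduct

namespace Groth.Agent.Lib.Hopf.ComodFFDescent

universe u v w z

open Groth.Agent.Lib.Hopf.ComodRing

variable {A : Type u} [CommRing A] {C : Type v} [AddCommGroup C] [Module A C]
  {V : Type w} [AddCommGroup V] [Module A V]
  (A' : Type z) [CommRing A'] [Algebra A A']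

variable (V) in
/-- The slice `V ⊗ C → A' ⊗ V` attached to an `A'`-linear functional on `A' ⊗ C`. -/
noncomputable def sliceBC (ψ : A' ⊗[A] C →ₗ[A'] A') : V ⊗[A] C →ₗ[A] A' ⊗[A] V :=
  (TensorProduct.comm A V A').toLinearMap ∘ₗ
    ((ψ.restrictScalars A) ∘ₗ TensorProduct.mk A A' C 1).lTensor V

@[simp] lemma sliceBC_tmul (ψ : A' ⊗[A] C →ₗ[A'] A') (v : V) (c : C) :
    sliceBC V A' ψ (v ⊗ₜ c) = ψ ((1 : A') ⊗ₜ c) ⊗ₜ v := by
  simp [sliceBC]

lemma exists_content [Module.FaithfullyFlat A A'] [Module.Projective A' (A' ⊗[A] C)]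
    (x : V ⊗[A] C) :
    ∃ U : Submodule A V, U.FG ∧ x ∈ tensorRight C U ∧
      ∀ U', x ∈ tensorRight C U' → U ≤ U' := by
  classical
  have : Module.Flat A C := Module.Flat.of_flat_tensorProduct A C A'
  obtain ⟨s, hs⟩ := Module.projective_def.1 (inferInstance : Module.Projective A' (A' ⊗[A] C))
  let ψ : A' ⊗[A] C → (A' ⊗[A] C →ₗ[A'] A') := fun i => (Finsupp.lapply i).comp s
  -- the bilinear map `(a ⊗ v, b ⊗ c) ↦ ab ⊗ (v ⊗ c)` composed with a map to any `Q ⊗ C`
  obtain ⟨S, hS⟩ : ∃ S : Finset (V × C), x = ∑ p ∈ S, p.1 ⊗ₜ[A] p.2 := TensorProduct.exists_finset x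
  let t : Finset (A' ⊗[A] C) := S.biUnion fun p => (s ((1 : A') ⊗ₜ p.2)).support
  have hcoord : ∀ p ∈ S, ((1 : A') ⊗ₜ[A] p.2) = ∑ i ∈ t, ψ i ((1 : A') ⊗ₜ p.2) • i := by
    intro p hp
    conv_lhs => rw [← hs ((1 : A') ⊗ₜ p.2), Finsupp.linearCombination_apply]
    refine Finset.sum_subset (fun i hi => Finset.mem_biUnion.2 ⟨p, hp, hi⟩) fun i _ hi => ?_
    simp [ψ, Finsupp.notMem_support_iff.1 hi]
  let U' : Submodule A' (A' ⊗[A] V) :=
    Submodule.span A' ((t.image fun i => sliceBC V A' (ψ i) x : Finset _) : Set (A' ⊗[A] V))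
  -- the composite `V → (A' ⊗ V) / U'`
  let g : V →ₗ[A] (A' ⊗[A] V) ⧸ U' := (U'.mkQ.restrictScalars A) ∘ₗ TensorProduct.mk A A' V 1
  let U : Submodule A V := LinearMap.ker g
  have hY : g.rTensor C x = 0 := by
    let B : ((A' ⊗[A] V) ⧸ U') →ₗ[A'] (A' ⊗[A] C) →ₗ[A'] (((A' ⊗[A] V) ⧸ U') ⊗[A] C) :=
      { toFun := fun q => (TensorProduct.mk A ((A' ⊗[A] V) ⧸ U') C q).liftBaseChange A'
        map_add' := fun p q => by
          refine LinearMap.ext fun z => ?_
          induction z using TensorProduct.induction_on with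
          | zero => simp
          | tmul b c => simp [TensorProduct.add_tmul]
          | add u v hu hv => simp only [map_add, hu, hv]
        map_smul' := fun b q => by
          refine LinearMap.ext fun z => ?_
          induction z using TensorProduct.induction_on with
          | zero => simp
          | tmul c d => simp [TensorProduct.smul_tmul', smul_smul, mul_comm]
          | add u v hu hv => simp only [map_add, hu, hv] }
    have hB : ∀ (v : V) (c : C), g v ⊗ₜ[A] c = B (g v) ((1 : A') ⊗ₜ c) := fun v c => by simp [B]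
    rw [hS, map_sum]
    simp only [LinearMap.rTensor_tmul]
    calc ∑ p ∈ S, g p.1 ⊗ₜ[A] p.2
        = ∑ p ∈ S, B (g p.1) (∑ i ∈ t, ψ i ((1 : A') ⊗ₜ p.2) • i) :=
          Finset.sum_congr rfl fun p hp => by
            rw [hB]; exact congrArg (B (g p.1)) (hcoord p hp)
      _ = ∑ i ∈ t, B (U'.mkQ (sliceBC V A' (ψ i) x)) i := by
          simp only [map_sum, map_smul, LinearMap.sum_apply]
          rw [Finset.sum_comm]
          refine Finset.sum_congr rfl fun i _ => ?_
          rw [hS, map_sum, map_sum, map_sum, LinearMap.sum_apply]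
          refine Finset.sum_congr rfl fun p _ => ?_
          rw [sliceBC_tmul, show ψ i ((1 : A') ⊗ₜ p.2) ⊗ₜ[A] p.1 =
            ψ i ((1 : A') ⊗ₜ p.2) • ((1 : A') ⊗ₜ[A] p.1) by rw [smul_tmul', smul_eq_mul, mul_one],
            map_smul, map_smul, LinearMap.smul_apply]
          rfl
      _ = 0 := Finset.sum_eq_zero fun i hi => by
          have h0 : U'.mkQ (sliceBC V A' (ψ i) x) = 0 := (Submodule.Quotient.mk_eq_zero _).2
            (Submodule.subset_span (Finset.mem_coe.2
              (Finset.mem_image_of_mem (fun i => sliceBC V A' (ψ i) x) hi)))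
          rw [h0, map_zero, LinearMap.zero_apply]
  have hxU : x ∈ tensorRight C U := by
    rw [mem_tensorRight_iff]
    apply Module.Flat.rTensor_preserves_injective_linearMap (U.liftQ g le_rfl)
      (LinearMap.ker_eq_bot.1 (Submodule.ker_liftQ_eq_bot _ _ _ le_rfl))
    rw [← LinearMap.comp_apply, ← LinearMap.rTensor_comp, Submodule.liftQ_mkQ, hY, map_zero]
  have hmin : ∀ U₂ : Submodule A V, (∀ i ∈ t, sliceBC V A' (ψ i) x ∈ U₂.baseChange A') → U ≤ U₂ := by
    intro U₂ h u hu
    have h1 : (1 : A') ⊗ₜ[A] u ∈ U' := (Submodule.Quotient.mk_eq_zero _).1 hu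
    have h2 : (1 : A') ⊗ₜ[A] u ∈ U₂.baseChange A' := by
      refine Submodule.span_le.2 ?_ h1
      intro y hy
      obtain ⟨i, hi, rfl⟩ := Finset.mem_image.1 (Finset.mem_coe.1 hy)
      exact h i hi
    rw [← Submodule.ker_mkQ U₂, LinearMap.mem_ker]
    apply (Module.FaithfullyFlat.one_tmul_eq_zero_iff A _ (A := A') (U₂.mkQ u)).1
    have h3 : ∀ y ∈ U₂.baseChange A', (U₂.mkQ).baseChange A' y = 0 := by
      intro y hy
      rw [Submodule.baseChange_eq_span] at hy
      induction hy using Submodule.span_induction with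
      | mem z hz =>
          obtain ⟨v, hv, rfl⟩ := hz
          show (U₂.mkQ).baseChange A' ((1 : A') ⊗ₜ[A] v) = 0
          rw [LinearMap.baseChange_tmul, Submodule.mkQ_apply,
            (Submodule.Quotient.mk_eq_zero U₂).2 hv, tmul_zero]
      | zero => simp
      | add p q _ _ hp hq => simp [hp, hq]
      | smul c p _ hp => simp [hp]
    simpa using h3 _ h2
  have hslice : ∀ U₂ : Submodule A V, x ∈ tensorRight C U₂ → ∀ φ : A' ⊗[A] C →ₗ[A'] A',
      sliceBC V A' φ x ∈ U₂.baseChange A' := by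
    rintro U₂ ⟨y, hy⟩ φ
    rw [← hy]
    clear hy
    induction y using TensorProduct.induction_on with
    | zero => simp
    | tmul u c =>
        rw [LinearMap.rTensor_tmul, sliceBC_tmul]
        exact Submodule.tmul_mem_baseChange_of_mem _ u.2
    | add p q hp hq => simp only [map_add]; exact add_mem hp hq
  obtain ⟨U₀, hU₀fg, hU₀⟩ := exists_fg_mem_tensorRight x
  refine ⟨U, ?_, hxU, fun U₂ h => hmin U₂ fun i _ => hslice U₂ h _⟩
  -- finite generation: a finite part of `U` suffices
  obtain ⟨T, hT⟩ : ∃ T : Finset U, ∀ i ∈ t, sliceBC V A' (ψ i) x ∈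
      (Submodule.span A ((T.image Subtype.val : Finset V) : Set V)).baseChange A' := by
    obtain ⟨y, hy⟩ := hxU
    obtain ⟨T, hT⟩ := TensorProduct.exists_finset y
    refine ⟨T.image Prod.fst, fun i _ => hslice _ ?_ _⟩
    rw [← hy, hT, map_sum]
    refine Submodule.sum_mem _ fun p hp => ?_
    rw [LinearMap.rTensor_tmul]
    refine tmul_mem_tensorRight (Submodule.subset_span ?_) _
    exact Finset.mem_coe.2 (Finset.mem_image_of_mem _ (Finset.mem_image_of_mem _ hp))
  have hle : Submodule.span A ((T.image Subtype.val : Finset V) : Set V) ≤ U := by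
    rw [Submodule.span_le]
    intro v hv
    obtain ⟨v', _, rfl⟩ := Finset.mem_image.1 (Finset.mem_coe.1 hv)
    exact v'.2
  rw [le_antisymm (hmin _ hT) hle]
  exact ⟨_, rfl⟩

end Groth.Agent.Lib.Hopf.ComodFFDescent
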