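import Groth.Agent.Lib.Hopf.ComodRing
import Mathlib.RingTheory.Flat.EquationalCriterion
import Mathlib.RingTheory.Flat.Stability
import Mathlib.LinearAlgebra.Dual.Lemmas
import Mathlib.RingTheory.Finiteness.Projective

/-!
The double dual of a finitely presented module with projective dual, maps from it into flat
modules, and the comodule structure on the double dual of a comodule over a flat coalgebra.
-/

open TensorProduct

namespace Groth.Agent.Lib.Hopf.DoubleDual

universe u v w x y

open Groth.Agent.Lib.Hopf.ComodRing HopfRep

variable {R : Type u} [CommRing R] {W : Type w} [AddCommGroup W] [Module R W]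

lemma projective_dual_of_projective (P : Type x) [AddCommGroup P] [Module R P] [Module.Finite R P]
    [Module.Projective R P] : Module.Projective R (Module.Dual R P) := by
  obtain ⟨n, f, g, -, -, h⟩ := Module.Finite.exists_comp_eq_id_of_projective R P
  refine Module.Projective.of_split f.dualMap g.dualMap ?_
  rw [LinearMap.dualMap_comp_dualMap, h]
  exact LinearMap.dualMap_id

/-- A map from a finitely presented module to a flat module extends to the double dual. -/
lemma exists_extend [Module.FinitePresentation R W] {T : Type x} [AddCommGroup T] [Module R T]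
    [Module.Flat R T] (f : W →ₗ[R] T) :
    ∃ g : Module.Dual R (Module.Dual R W) →ₗ[R] T, g ∘ₗ Module.Dual.eval R W = f := by
  classical
  obtain ⟨k, a, b, rfl⟩ := Module.Flat.exists_factorization_of_finitePresentation f
  refine ⟨∑ i, (Module.Dual.eval R (Module.Dual R W) (Finsupp.lapply i ∘ₗ a)).smulRight
    (b (Finsupp.single i 1)), LinearMap.ext fun w => ?_⟩
  simp only [LinearMap.comp_apply, LinearMap.sum_apply, LinearMap.smulRight_apply,
    Module.Dual.eval_apply, Finsupp.lapply_apply, ← map_smul, ← map_sum]
  congr 1
  simp

/-- The restriction of a map on the double dual to the module determines it, if the target is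
flat and the dual is finite projective. -/
lemma eq_zero_of_comp_eval [Module.Finite R W] [Module.Finite R (Module.Dual R W)]
    [Module.Projective R (Module.Dual R W)] {T : Type x} [AddCommGroup T] [Module R T]
    [Module.Flat R T] (g : Module.Dual R (Module.Dual R W) →ₗ[R] T)
    (h : g ∘ₗ Module.Dual.eval R W = 0) : g = 0 := by
  classical
  obtain ⟨n, f, s, -, -, hfs⟩ := Module.Finite.exists_comp_eq_id_of_projective R (Module.Dual R W)
  obtain ⟨m, p, hp⟩ := Module.Finite.exists_fin' R W
  let φ : Fin n → Module.Dual R W := fun i => f (Pi.single i 1)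
  let c : Fin n → Module.Dual R (Module.Dual R W) := fun i => LinearMap.proj i ∘ₗ s
  have hξ : ∀ ξ : Module.Dual R (Module.Dual R W), ξ = ∑ i, ξ (φ i) • c i := by
    intro ξ
    refine LinearMap.ext fun ψ => ?_
    have h1 : f (s ψ) = ψ := LinearMap.congr_fun hfs ψ
    conv_lhs => rw [← h1, pi_eq_sum_univ' (s ψ)]
    simp [φ, c, mul_comm]
  let z : Module.Dual R W ⊗[R] T := ∑ i, φ i ⊗ₜ g (c i)
  let co : Fin m → (Module.Dual R (Fin m → R) ⊗[R] T →ₗ[R] T) := fun j =>
    (TensorProduct.lid R T).toLinearMap ∘ₗ
      (Module.Dual.eval R _ (Pi.single j 1)).rTensor T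
  have hco : ∀ y : Module.Dual R (Fin m → R) ⊗[R] T,
      y = ∑ j, (LinearMap.proj j : Module.Dual R (Fin m → R)) ⊗ₜ co j y := by
    intro y
    induction y using TensorProduct.induction_on with
    | zero => simp
    | tmul ψ t =>
        have hψ : ψ = ∑ j, ψ (Pi.single j 1) • (LinearMap.proj j : Module.Dual R (Fin m → R)) := by
          refine LinearMap.ext fun v => ?_
          conv_lhs => rw [pi_eq_sum_univ' v]
          simp [mul_comm]
        simp only [co, LinearMap.comp_apply, LinearMap.rTensor_tmul, LinearEquiv.coe_coe,
          Module.Dual.eval_apply, TensorProduct.lid_tmul, ← TensorProduct.smul_tmul,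
          ← TensorProduct.sum_tmul, ← hψ]
    | add a b ha hb =>
        simp only [map_add, TensorProduct.tmul_add, Finset.sum_add_distrib, ← ha, ← hb]
  have hz : z = 0 := by
    apply Module.Flat.rTensor_preserves_injective_linearMap (M := T) p.dualMap
      (LinearMap.dualMap_injective_of_surjective hp)
    rw [map_zero, hco (p.dualMap.rTensor T z)]
    refine Finset.sum_eq_zero fun j _ => ?_
    have : co j (p.dualMap.rTensor T z) = g (Module.Dual.eval R W (p (Pi.single j 1))) := by
      conv_rhs => rw [hξ (Module.Dual.eval R W (p (Pi.single j 1)))]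
      simp [co, z]
    rw [this, ← LinearMap.comp_apply, h, LinearMap.zero_apply, TensorProduct.tmul_zero]
  refine LinearMap.ext fun ξ => ?_
  have := congrArg (fun y => TensorProduct.lid R T (LinearMap.rTensor T ξ y)) hz
  simp only [z, map_sum, LinearMap.rTensor_tmul,
    TensorProduct.lid_tmul, map_zero] at this
  conv_lhs => rw [hξ ξ]
  simpa using this

lemma ext_of_comp_eval [Module.Finite R W] [Module.Finite R (Module.Dual R W)]
    [Module.Projective R (Module.Dual R W)] {T : Type x} [AddCommGroup T] [Module R T]
    [Module.Flat R T] (g g' : Module.Dual R (Module.Dual R W) →ₗ[R] T)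
    (h : g ∘ₗ Module.Dual.eval R W = g' ∘ₗ Module.Dual.eval R W) : g = g' :=
  sub_eq_zero.1 (eq_zero_of_comp_eval _ (by rw [LinearMap.sub_comp, h, sub_self]))

variable {C : Type v} [AddCommGroup C] [Module R C]

lemma assoc_rTensor_rTensor {V : Type x} [AddCommGroup V] [Module R V] {V' : Type y}
    [AddCommGroup V'] [Module R V'] (i : V →ₗ[R] V') (y : (V ⊗[R] C) ⊗[R] C) :
    TensorProduct.assoc R V' C C ((i.rTensor C).rTensor C y) =
      i.rTensor (C ⊗[R] C) (TensorProduct.assoc R V C C y) := by
  induction y using TensorProduct.induction_on with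
  | zero => simp
  | tmul a c =>
      induction a using TensorProduct.induction_on with
      | zero => simp
      | tmul v c' => simp
      | add a b ha hb => simp_all [TensorProduct.add_tmul]
  | add a b ha hb => simp_all

variable [Coalgebra R C] [Module.Flat R C] [Comod R C W] [Module.FinitePresentation R W]
  [Module.Finite R (Module.Dual R W)] [Module.Projective R (Module.Dual R W)]

/-- A comodule structure on the double dual for which the evaluation is a comodule map. -/
lemma exists_comod :
    ∃ cV : Comod R C (Module.Dual R (Module.Dual R W)),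
      cV.coact ∘ₗ Module.Dual.eval R W =
        (Module.Dual.eval R W).rTensor C ∘ₗ Comod.coact (k := R) (A := C) := by
  have : Module.Projective R (Module.Dual R (Module.Dual R W)) :=
    projective_dual_of_projective _
  let η := Module.Dual.eval R W
  obtain ⟨δ, hδ⟩ := exists_extend (T := Module.Dual R (Module.Dual R W) ⊗[R] C)
    (η.rTensor C ∘ₗ Comod.coact (k := R) (A := C))
  refine ⟨{ coact := δ, coassoc := ?_, counit_comp := ?_ }, hδ⟩
  · refine ext_of_comp_eval (W := W) (T := Module.Dual R (Module.Dual R W) ⊗[R] (C ⊗[R] C)) _ _ ?_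
    refine LinearMap.ext fun w => ?_
    have hδw : δ (η w) = η.rTensor C (Comod.coact (k := R) (A := C) w) := LinearMap.congr_fun hδ w
    have hc := congr($(Comod.coassoc (k := R) (A := C) (V := W)) w)
    simp only [LinearMap.comp_apply, LinearEquiv.coe_coe] at hc ⊢
    rw [hδw, ← LinearMap.comp_apply (δ.rTensor C), ← LinearMap.rTensor_comp, hδ,
      LinearMap.rTensor_comp, LinearMap.comp_apply, assoc_rTensor_rTensor, hc,
      ← LinearMap.comp_apply (η.rTensor (C ⊗[R] C)), LinearMap.rTensor_comp_lTensor,
      ← LinearMap.lTensor_comp_rTensor, LinearMap.comp_apply]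
  · refine ext_of_comp_eval (W := W) (T := Module.Dual R (Module.Dual R W) ⊗[R] R) _ _ ?_
    refine LinearMap.ext fun w => ?_
    have hδw : δ (η w) = η.rTensor C (Comod.coact (k := R) (A := C) w) := LinearMap.congr_fun hδ w
    have hc := congr($(Comod.counit_comp (k := R) (A := C) (V := W)) w)
    simp only [LinearMap.comp_apply, LinearMap.flip_apply, TensorProduct.mk_apply] at hc ⊢
    rw [hδw, ← LinearMap.comp_apply, LinearMap.lTensor_comp_rTensor,
      ← LinearMap.rTensor_comp_lTensor, LinearMap.comp_apply, hc, LinearMap.rTensor_tmul]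

end Groth.Agent.Lib.Hopf.DoubleDual
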