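import Groth.Agent.Lib.Hopf.HeightOne
import Groth.Agent.Lib.Hopf.SubStruct
import Mathlib.FieldTheory.Perfect
import Mathlib.RingTheory.LocalRing.Module
import Mathlib.RingTheory.HopkinsLevitzki
import Mathlib.Algebra.CharP.Lemmas
import Mathlib.Algebra.CharP.Algebra
import Mathlib.LinearAlgebra.Dimension.Constructions

/-!
The dimension of a finite dimensional local Hopf algebra with residue field `k` is a power of the
characteristic exponent.
-/

open TensorProduct

namespace Groth.Agent.Lib.Hopf.FiniteLocal

universe u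

open Groth.Agent.Lib.Hopf.HeightOne

variable {k : Type u} [Field k] {A : Type u} [CommRing A] [Bialgebra k A]

lemma isNilpotent_ker [Module.Finite k A] [IsLocalRing A] :
    IsNilpotent (RingHom.ker (Bialgebra.counitAlgHom k A)) := by
  have : IsArtinianRing A := IsArtinianRing.of_finite k A
  have h : RingHom.ker (Bialgebra.counitAlgHom k A) = IsLocalRing.maximalIdeal A :=
    IsLocalRing.eq_maximalIdeal (RingHom.ker_isMaximal_of_surjective _
      (Bialgebra.counit_surjective (R := k) (A := A)))
  rw [h, ← IsLocalRing.jacobson_eq_maximalIdeal (⊥ : Ideal A) bot_ne_top]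
  exact IsArtinianRing.isNilpotent_jacobson_bot

/-- In characteristic zero a finite dimensional local Hopf algebra is trivial. -/
lemma finrank_eq_one_of_charZero [CharZero k] [Module.Finite k A] [IsLocalRing A] :
    Module.finrank k A = 1 := by
  have hnil := isNilpotent_ker (k := k) (A := A)
  obtain ⟨n, ⟨c⟩⟩ := exists_coords (k := k) (A := A)
  have h1 := (c.linearIndependent_mono (Module.finrank k A + 2)
    fun m _ hm => Nat.cast_ne_zero.2 hm).fintype_card_le_finrank
  rw [Fintype.card_fun, Fintype.card_fin, Fintype.card_fin] at h1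
  have hn : n = 0 := by
    by_contra hn
    have := Nat.le_self_pow hn (Module.finrank k A + 2)
    omega
  subst hn
  have hker : RingHom.ker (Bialgebra.counitAlgHom k A) = ⊥ := by
    rw [eq_bot_iff]
    refine (c.ker_le_span hnil).trans ?_
    simp [Set.range_eq_empty]
  let e : A ≃ₐ[k] k := AlgEquiv.ofBijective (Bialgebra.counitAlgHom k A)
    ⟨(RingHom.injective_iff_ker_eq_bot _).2 hker, Bialgebra.counit_surjective⟩
  rw [e.toLinearEquiv.finrank_eq, Module.finrank_self]

section CharP

variable (p : ℕ) [Fact p.Prime] [CharP k p]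

variable (k A) in
/-- The subalgebra of `p`-th powers over a perfect field. -/
noncomputable def powSub [PerfectRing k p] : Subalgebra k A :=
  have : CharP A p := charP_of_injective_algebraMap (Bialgebra.algebraMap_injective (R := k) A) p
  { (frobenius A p).range.toSubsemiring with
    algebraMap_mem' := fun r => ⟨algebraMap k A ((frobeniusEquiv k p).symm r), by
      rw [frobenius_def, ← map_pow, frobeniusEquiv_symm_pow_p]⟩ }

lemma mem_powSub [PerfectRing k p] {b : A} : b ∈ powSub k A p ↔ ∃ a, a ^ p = b := by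
  have : CharP A p := charP_of_injective_algebraMap (Bialgebra.algebraMap_injective (R := k) A) p
  exact ⟨fun ⟨a, ha⟩ => ⟨a, ha⟩, fun ⟨a, ha⟩ => ⟨a, ha⟩⟩

lemma D_mul_pow {ε : A →ₐ[k] k} {n : ℕ} (c : Coords k A ε n) (i : Fin n) (a q : A) :
    c.D i (a ^ p * q) = a ^ p * c.D i q := by
  have : CharP A p := charP_of_injective_algebraMap (Bialgebra.algebraMap_injective (R := k) A) p
  have h : ∀ m, c.D i (a ^ (m + 1)) = ((m + 1 : ℕ) : A) * (a ^ m * c.D i a) := by
    intro m
    induction m with
    | zero => simp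
    | succ m ih => rw [pow_succ a (m + 1), c.leibniz, ih]; push_cast; ring
  have hp : c.D i (a ^ p) = 0 := by
    obtain ⟨m, hm⟩ := Nat.exists_eq_succ_of_ne_zero (Fact.out : p.Prime).ne_zero
    rw [hm, h m, show ((m + 1 : ℕ) : A) = 0 by rw [← Nat.succ_eq_add_one, ← hm]; exact CharP.cast_eq_zero A p,
      zero_mul]
  rw [c.leibniz, hp, mul_zero, add_zero]

end CharP

namespace Mono

variable {B : Type u} [CommRing B] [Algebra k B] [IsLocalRing B]
  {A : Type u} [CommRing A] [Algebra k A] [Algebra B A] [IsScalarTower k B A]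
  {ε : A →ₐ[k] k} {n : ℕ}

/-- The augmentation induced on the closed fibre. -/
lemma algebraMap_residueField_eq (ε : A →ₐ[k] k) (b : B) :
    algebraMap B (IsLocalRing.ResidueField B) b =
      algebraMap k (IsLocalRing.ResidueField B) (ε (algebraMap B A b)) := by
  let ψ : B →ₐ[k] k := ε.comp (IsScalarTower.toAlgHom k B A)
  have hm : RingHom.ker ψ = IsLocalRing.maximalIdeal B :=
    IsLocalRing.eq_maximalIdeal (RingHom.ker_isMaximal_of_surjective _
      fun r => ⟨algebraMap k B r, by simp⟩)
  rw [IsScalarTower.algebraMap_apply k B (IsLocalRing.ResidueField B), ← sub_eq_zero, ← map_sub,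
    IsLocalRing.ResidueField.algebraMap_eq, IsLocalRing.residue_eq_zero_iff, ← hm,
    RingHom.mem_ker, map_sub, AlgHom.commutes]
  simp [ψ]

variable (B) in
/-- The augmentation of the closed fibre. -/
noncomputable def epsFibre (ε : A →ₐ[k] k) :
    IsLocalRing.ResidueField B ⊗[B] A →ₐ[IsLocalRing.ResidueField B] IsLocalRing.ResidueField B :=
  Algebra.TensorProduct.lift (AlgHom.id (IsLocalRing.ResidueField B) (IsLocalRing.ResidueField B))
    (AlgHom.mk' ((algebraMap k (IsLocalRing.ResidueField B)).comp (ε : A →+* k)) fun b a => by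
      simp [Algebra.smul_def, ← algebraMap_residueField_eq ε b]) fun _ _ => Commute.all _ _

lemma epsFibre_tmul (ε : A →ₐ[k] k) (l : IsLocalRing.ResidueField B) (a : A) :
    epsFibre B ε (l ⊗ₜ a) = l * algebraMap k _ (ε a) := by
  simp [epsFibre]

lemma epsFibre_one_tmul_eq_zero_iff (a : A) :
    epsFibre B ε ((1 : IsLocalRing.ResidueField B) ⊗ₜ a) = 0 ↔ a ∈ RingHom.ker ε := by
  rw [epsFibre_tmul, one_mul, RingHom.mem_ker, map_eq_zero_iff _ (algebraMap k _).injective]

lemma mk_surjective' (z : IsLocalRing.ResidueField B ⊗[B] A) :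
    ∃ a, (1 : IsLocalRing.ResidueField B) ⊗ₜ[B] a = z :=
  TensorProduct.mk_surjective B A _ IsLocalRing.residue_surjective z

/-- The coordinates on the closed fibre. -/
lemma exists_coords_fibre (c : Coords k A ε n)
    (hD : ∀ i (b : B) a, c.D i (algebraMap B A b * a) = algebraMap B A b * c.D i a) :
    ∃ c' : Coords (IsLocalRing.ResidueField B) (IsLocalRing.ResidueField B ⊗[B] A) (epsFibre B ε) n,
      ∀ i, c'.x i = (1 : IsLocalRing.ResidueField B) ⊗ₜ c.x i := by
  let D : Fin n → (A →ₗ[B] A) := fun i =>
    { c.D i with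
      map_smul' := fun b a => by simp [Algebra.smul_def, hD] }
  have hD' : ∀ i a, D i a = c.D i a := fun i a => rfl
  let inc : A →+* IsLocalRing.ResidueField B ⊗[B] A :=
    (Algebra.TensorProduct.includeRight (R := B) (A := IsLocalRing.ResidueField B) (B := A)).toRingHom
  have hle : (RingHom.ker ε).map inc ≤ RingHom.ker (epsFibre B ε) :=
    Ideal.map_le_iff_le_comap.2 fun a ha => (epsFibre_one_tmul_eq_zero_iff a).2 ha
  refine ⟨{
    x := fun i => (1 : IsLocalRing.ResidueField B) ⊗ₜ c.x i
    D := fun i => (D i).baseChange _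
    leibniz := fun i y z => ?_
    eps_x := fun i => (epsFibre_one_tmul_eq_zero_iff _).2 (c.eps_x i)
    eps_D := fun i j => ?_
    span := fun z hz => ?_ }, fun i => rfl⟩
  · induction y using TensorProduct.induction_on with
    | zero => simp
    | tmul l a =>
        induction z using TensorProduct.induction_on with
        | zero => simp
        | tmul m b => simp [hD', c.leibniz, TensorProduct.tmul_add, mul_comm l m]
        | add u v hu hv => simp only [mul_add, add_mul, map_add, hu, hv]; abel
    | add u v hu hv => simp only [mul_add, add_mul, map_add, hu, hv]; abel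
  · rw [LinearMap.baseChange_tmul, epsFibre_tmul, hD', c.eps_D]
    split_ifs <;> simp
  · obtain ⟨a, rfl⟩ := mk_surjective' z
    have h2 := Ideal.mem_map_of_mem inc (c.span ((epsFibre_one_tmul_eq_zero_iff a).1 hz))
    rw [Ideal.map_sup, Ideal.map_mul, Ideal.map_span, ← Set.range_comp] at h2
    exact (sup_le_sup_left (Ideal.mul_mono hle hle) _) h2

/-- The small monomials are a basis over `B`. -/
lemma bijective_of_coords [Module.Finite B A] [Module.Flat B A] (c : Coords k A ε n) (p : ℕ) [Fact p.Prime] [CharP k p]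
    (hnil : IsNilpotent (RingHom.ker ε))
    (hD : ∀ i (b : B) a, c.D i (algebraMap B A b * a) = algebraMap B A b * c.D i a)
    (hx : ∀ i, ∃ b : B, algebraMap B A b = c.x i ^ p) :
    Function.Bijective (Finsupp.linearCombination B (mono c.x p)) := by
  obtain ⟨c', hc'⟩ := exists_coords_fibre c hD
  let inc : A →+* IsLocalRing.ResidueField B ⊗[B] A :=
    (Algebra.TensorProduct.includeRight (R := B) (A := IsLocalRing.ResidueField B) (B := A)).toRingHom
  have hnil' : IsNilpotent (RingHom.ker (epsFibre B ε)) := by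
    obtain ⟨N, hN⟩ := hnil
    refine ⟨N, ?_⟩
    rw [Submodule.zero_eq_bot, eq_bot_iff, ← Ideal.map_bot (f := inc), ← Submodule.zero_eq_bot,
      ← hN, Ideal.map_pow]
    refine Ideal.pow_right_mono (fun z hz => ?_) N
    obtain ⟨a, rfl⟩ := mk_surjective' z
    exact Ideal.mem_map_of_mem inc ((epsFibre_one_tmul_eq_zero_iff a).1 hz)
  have hxp : ∀ i, c'.x i ^ p = 0 := by
    intro i
    obtain ⟨b, hb⟩ := hx i
    rw [hc', Algebra.TensorProduct.tmul_pow, one_pow, ← hb, Algebra.algebraMap_eq_smul_one (A := A),
      TensorProduct.tmul_smul, Algebra.smul_def,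
      IsScalarTower.algebraMap_apply B (IsLocalRing.ResidueField B) (_ ⊗[B] A),
      algebraMap_residueField_eq ε b, hb, map_pow, c.eps_x, zero_pow (Fact.out : p.Prime).ne_zero,
      map_zero, map_zero, zero_mul]
  have : CharP (IsLocalRing.ResidueField B) p :=
    charP_of_injective_algebraMap (algebraMap k (IsLocalRing.ResidueField B)).injective p
  have hgood : ∀ m < p, m ≠ 0 → (m : IsLocalRing.ResidueField B) ≠ 0 := fun m hm hm0 h => by
    rw [CharP.cast_eq_zero_iff _ p] at h
    exact absurd (Nat.le_of_dvd (Nat.pos_of_ne_zero hm0) h) (not_le.2 hm)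
  have hmono : TensorProduct.mk B (IsLocalRing.ResidueField B) A 1 ∘ mono c.x p = mono c'.x p := by
    funext α
    show Algebra.TensorProduct.includeRight (R := B) (A := IsLocalRing.ResidueField B) (mono c.x p α) = _
    simp [mono, map_prod, hc', Algebra.TensorProduct.tmul_pow]
  refine Module.IsLocalRing.linearCombination_bijective_of_flat _ ?_
  rw [hmono]
  refine ⟨c'.linearIndependent_mono p hgood, ?_⟩
  rw [← LinearMap.range_eq_top, Finsupp.range_linearCombination]
  exact c'.span_mono p hnil' hxp

end Mono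

section Hopf

variable {A : Type u} [CommRing A] [HopfAlgebra k A] (p : ℕ) [Fact p.Prime] [CharP k p]
  [PerfectRing k p]

lemma isHopfSubalgebra_powSub : SGA3.IsHopfSubalgebra k A (powSub k A p) := by
  have hA : CharP A p := charP_of_injective_algebraMap (Bialgebra.algebraMap_injective (R := k) A) p
  have : CharP (A ⊗[k] A) p :=
    charP_of_injective_algebraMap (Bialgebra.algebraMap_injective (R := k) (A ⊗[k] A)) p
  refine ⟨?_, ?_⟩
  · intro b hb
    obtain ⟨a, rfl⟩ := (mem_powSub p).1 hb
    rw [Bialgebra.comul_pow]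
    generalize CoalgebraStruct.comul (R := k) a = y
    induction y using TensorProduct.induction_on with
    | zero => simp [(Fact.out : p.Prime).ne_zero]
    | tmul u v =>
        rw [Algebra.TensorProduct.tmul_pow]
        exact ⟨⟨u ^ p, (mem_powSub p).2 ⟨u, rfl⟩⟩ ⊗ₜ ⟨v ^ p, (mem_powSub p).2 ⟨v, rfl⟩⟩, rfl⟩
    | add u v hu hv => rw [add_pow_char]; exact add_mem hu hv
  · intro b hb
    obtain ⟨a, rfl⟩ := (mem_powSub p).1 hb
    exact (mem_powSub p).2 ⟨HopfAlgebra.antipodeAlgHom k A a,
      (map_pow (HopfAlgebra.antipodeAlgHom k A) a p).symm⟩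

lemma isLocalRing_powSub [IsLocalRing A] : IsLocalRing (powSub k A p) := by
  refine IsLocalRing.of_isUnit_or_isUnit_one_sub_self fun b => ?_
  have key : ∀ a : powSub k A p, IsUnit (a : A) → IsUnit a := by
    intro a ha
    obtain ⟨c, hc⟩ := (mem_powSub p).1 a.2
    have hcu : IsUnit c := by
      rw [← hc] at ha
      exact (isUnit_pow_iff (Fact.out : p.Prime).ne_zero).1 ha
    obtain ⟨d, hd⟩ := hcu.exists_right_inv
    refine IsUnit.of_mul_eq_one ⟨d ^ p, (mem_powSub p).2 ⟨d, rfl⟩⟩ (Subtype.ext ?_)
    simp [← hc, ← mul_pow, hd]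
  exact (IsLocalRing.isUnit_or_isUnit_one_sub_self (b : A)).imp (key b) fun h => key (1 - b) (by simpa using h)

variable (A) in
lemma finrank_eq_mul_pow [Module.Finite k A] [IsLocalRing A] :
    ∃ n : ℕ, Module.finrank k A = Module.finrank k (powSub k A p) * p ^ n := by
  have hA : CharP A p := charP_of_injective_algebraMap (Bialgebra.algebraMap_injective (R := k) A) p
  set B := powSub k A p with hBdef
  have hB : SGA3.IsHopfSubalgebra k A B := isHopfSubalgebra_powSub (k := k) (A := A) p
  have := Groth.Agent.Lib.Hopf.FaithfullyFlat.faithfullyFlat hB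
  have : IsLocalRing B := isLocalRing_powSub p
  have : Module.Finite k B := FiniteDimensional.finiteDimensional_submodule B.toSubmodule
  have : Module.Finite B A := Module.Finite.of_restrictScalars_finite k B A
  obtain ⟨n, ⟨c⟩⟩ := exists_coords (k := k) (A := A)
  have hb := Mono.bijective_of_coords (B := B) c p isNilpotent_ker
    (fun i b a => by
      obtain ⟨q, hq⟩ := (mem_powSub p).1 b.2
      show c.D i ((b : A) * a) = (b : A) * c.D i a
      rw [← hq, D_mul_pow p c])
    (fun i => ⟨⟨_, (mem_powSub p).2 ⟨c.x i, rfl⟩⟩, rfl⟩)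
  let bas : Module.Basis (Fin n → Fin p) B A :=
    Module.Basis.ofRepr (LinearEquiv.ofBijective _ hb).symm
  have : Module.Free B A := Module.Free.of_basis bas
  refine ⟨n, ?_⟩
  rw [← Module.finrank_mul_finrank k B A, Module.finrank_eq_card_basis bas, Fintype.card_fun,
    Fintype.card_fin, Fintype.card_fin]

theorem exists_finrank_eq_pow : ∀ (d : ℕ) (A : Type u) [CommRing A] [HopfAlgebra k A]
    [Module.Finite k A] [IsLocalRing A], Module.finrank k A = d → ∃ r, d = p ^ r := by
  intro d
  induction d using Nat.strong_induction_on with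
  | _ d ih =>
  intro A _ _ _ _ hd
  have hA : CharP A p := charP_of_injective_algebraMap (Bialgebra.algebraMap_injective (R := k) A) p
  by_cases hB : powSub k A p = ⊤
  · -- every element is a `p`-th power, so the augmentation ideal is zero
    set ε := Bialgebra.counitAlgHom k A
    have h2 : RingHom.ker ε ≤ RingHom.ker ε * RingHom.ker ε := by
      intro a ha
      obtain ⟨b, hb⟩ := (mem_powSub (k := k) p).1 (hB ▸ Algebra.mem_top : a ∈ powSub k A p)
      have hb0 : ε b = 0 := by
        have : ε b ^ p = 0 := by rw [← map_pow, hb]; exact ha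
        exact eq_zero_of_pow_eq_zero this
      rw [← hb, ← pow_two]
      exact Ideal.pow_le_pow_right (Fact.out : p.Prime).two_le (Ideal.pow_mem_pow hb0 p)
    obtain ⟨N, hN⟩ := isNilpotent_ker (k := k) (A := A)
    have h3 : ∀ m, RingHom.ker ε ≤ RingHom.ker ε ^ (m + 1) := by
      intro m
      induction m with
      | zero => simp
      | succ m ihm =>
          refine h2.trans ?_
          rw [pow_succ]
          exact Ideal.mul_mono ihm le_rfl
    have hker : RingHom.ker ε = ⊥ := eq_bot_iff.2 ((h3 N).trans (by rw [pow_succ, hN]; simp))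
    let e : A ≃ₐ[k] k := AlgEquiv.ofBijective ε
      ⟨(RingHom.injective_iff_ker_eq_bot _).2 hker, Bialgebra.counit_surjective⟩
    exact ⟨0, by rw [← hd, e.toLinearEquiv.finrank_eq, Module.finrank_self, pow_zero]⟩
  · obtain ⟨n, hn⟩ := finrank_eq_mul_pow (k := k) A p
    let _ := Groth.Agent.Lib.Hopf.SubStruct.subHopf (isHopfSubalgebra_powSub (k := k) (A := A) p)
    have := isLocalRing_powSub (k := k) (A := A) p
    have : Module.Finite k (powSub k A p) :=
      FiniteDimensional.finiteDimensional_submodule (powSub k A p).toSubmodule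
    have hlt : Module.finrank k (powSub k A p) < d := by
      rw [← hd, ← Subalgebra.finrank_toSubmodule]
      exact Submodule.finrank_lt fun h => hB (Algebra.toSubmodule_eq_top.1 h)
    obtain ⟨r, hr⟩ := ih _ hlt (powSub k A p) rfl
    exact ⟨r + n, by rw [← hd, hn, hr, pow_add]⟩

end Hopf

end Groth.Agent.Lib.Hopf.FiniteLocal
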