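import Groth.Agent.Lib.Hopf.ComodRing
import Mathlib.RingTheory.MvPolynomial.EulerIdentity
import Mathlib.RingTheory.MvPolynomial.Homogeneous
import Mathlib.Algebra.CharP.Basic
import Mathlib.RingTheory.Nilpotent.Lemmas
import Mathlib.RingTheory.FiniteType
import Mathlib.RingTheory.Bialgebra.Basic
import Mathlib.RingTheory.Noetherian.Basic
import Mathlib.LinearAlgebra.Dimension.Free

/-!
Coordinates at an augmentation point with invariant derivations: monomials with small exponents are
linearly independent; for augmentation ideals killed by Frobenius they form a basis.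
-/

open TensorProduct

namespace Groth.Agent.Lib.Hopf.HeightOne

universe u v

/-- Coordinates `x` at the point `ε` with derivations `D` dual to them at `ε`. -/
structure Coords (k : Type u) [CommRing k] (A : Type v) [CommRing A] [Algebra k A]
    (ε : A →ₐ[k] k) (n : ℕ) where
  /-- the coordinates -/
  x : Fin n → A
  /-- the derivations -/
  D : Fin n → (A →ₗ[k] A)
  leibniz : ∀ i a b, D i (a * b) = a * D i b + b * D i a
  eps_x : ∀ i, ε (x i) = 0
  eps_D : ∀ i j, ε (D i (x j)) = if i = j then 1 else 0
  span : RingHom.ker ε ≤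
    Ideal.span (Set.range x) ⊔ RingHom.ker ε * RingHom.ker ε

/-- The monomial with exponents below `p`. -/
def mono {A : Type v} [CommRing A] {n : ℕ} (x : Fin n → A) (p : ℕ) (α : Fin n → Fin p) : A :=
  ∏ i, x i ^ (α i : ℕ)

variable {k : Type u} [Field k] {A : Type v} [CommRing A] [Algebra k A] {ε : A →ₐ[k] k} {n : ℕ}

namespace Coords

variable (c : Coords k A ε n)

lemma D_algebraMap (i : Fin n) (r : k) : c.D i (algebraMap k A r) = 0 := by
  have h := c.leibniz i 1 1
  simp only [one_mul] at h
  have h1 : c.D i 1 = 0 := by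
    simpa using h
  rw [Algebra.algebraMap_eq_smul_one, map_smul, h1, smul_zero]

lemma D_mem_pow (i : Fin n) : ∀ (m : ℕ) (a : A), a ∈ RingHom.ker ε ^ (m + 1) →
    c.D i a ∈ RingHom.ker ε ^ m := by
  intro m
  induction m with
  | zero => intro a _; simp
  | succ m ih =>
      intro a ha
      rw [pow_succ] at ha
      induction ha using Submodule.mul_induction_on' with
      | mem_mul_mem b hb d hd =>
          rw [c.leibniz]
          refine add_mem (Ideal.mul_mem_right _ _ hb) ?_
          rw [pow_succ']
          exact Ideal.mul_mem_mul hd (ih b hb)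
      | add p _ q _ hp hq => rw [map_add]; exact add_mem hp hq

lemma D_aeval (i : Fin n) (P : MvPolynomial (Fin n) k) :
    c.D i (MvPolynomial.aeval c.x P) =
      ∑ j, MvPolynomial.aeval c.x (MvPolynomial.pderiv j P) * c.D i (c.x j) := by
  induction P using MvPolynomial.induction_on with
  | C r => simp [c.D_algebraMap]
  | add P Q hP hQ => simp [hP, hQ, add_mul, Finset.sum_add_distrib]
  | mul_X P l hP =>
      simp only [map_mul, MvPolynomial.aeval_X, c.leibniz, hP, MvPolynomial.pderiv_mul,
        MvPolynomial.pderiv_X, map_add, add_mul, Finset.sum_add_distrib, Finset.mul_sum]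
      rw [add_comm]
      congr 1
      · exact Finset.sum_congr rfl fun j _ => by ring
      · rw [Finset.sum_eq_single l] <;> simp +contextual

lemma aeval_mem_pow {d : ℕ} {P : MvPolynomial (Fin n) k} (hP : P.IsHomogeneous d) :
    MvPolynomial.aeval c.x P ∈ RingHom.ker ε ^ d := by
  classical
  rw [P.as_sum, map_sum]
  refine Submodule.sum_mem _ fun α hα => ?_
  rw [MvPolynomial.aeval_monomial]
  refine Ideal.mul_mem_left _ _ ?_
  have hdeg : α.sum (fun _ e => e) = d := by
    have := hP (MvPolynomial.mem_support_iff.1 hα)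
    simpa [Finsupp.weight_apply] using this
  rw [← hdeg, Finsupp.prod, Finsupp.sum, ← Finset.prod_pow_eq_pow_sum]
  exact Ideal.prod_mem_prod fun i _ => Ideal.pow_mem_pow (c.eps_x i) _

lemma eq_zero_of_homogeneous_mem (p : ℕ) (hp : ∀ m < p, m ≠ 0 → (m : k) ≠ 0) :
    ∀ (d : ℕ) (P : MvPolynomial (Fin n) k), P.IsHomogeneous d →
      (∀ α ∈ P.support, ∀ i, α i < p) →
      MvPolynomial.aeval c.x P ∈ RingHom.ker ε ^ (d + 1) → P = 0 := by
  intro d
  induction d with
  | zero =>
      intro P hP _ hmem
      have hC : P = MvPolynomial.C (P.coeff 0) :=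
        MvPolynomial.totalDegree_eq_zero_iff_eq_C.1 (Nat.le_zero.1 hP.totalDegree_le)
      rw [hC] at hmem ⊢
      rw [zero_add, pow_one, MvPolynomial.aeval_C, RingHom.mem_ker, AlgHom.commutes,
        Algebra.algebraMap_self_apply] at hmem
      rw [hmem, map_zero]
  | succ d ih =>
      intro P hP hexp hmem
      have hpd : ∀ i, MvPolynomial.pderiv i P = 0 := by
        intro i
        have hhom : ∀ j, (MvPolynomial.pderiv j P).IsHomogeneous d := fun j => hP.pderiv
        refine ih _ (hhom i) ?_ ?_
        · intro α hα l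
          rw [MvPolynomial.mem_support_iff, MvPolynomial.coeff_pderiv] at hα
          have := hexp _ (MvPolynomial.mem_support_iff.2 (left_ne_zero_of_mul hα)) l
          refine lt_of_le_of_lt ?_ this
          simp
        · have h1 := c.D_mem_pow i (d + 1) _ hmem
          rw [c.D_aeval] at h1
          have h2 : ∀ j, MvPolynomial.aeval c.x (MvPolynomial.pderiv j P) *
              (c.D i (c.x j) - if i = j then 1 else 0) ∈ RingHom.ker ε ^ (d + 1) := fun j => by
            rw [pow_succ]
            refine Ideal.mul_mem_mul (c.aeval_mem_pow (hhom j)) ?_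
            rw [RingHom.mem_ker, map_sub, c.eps_D]
            split_ifs <;> simp
          have h3 : MvPolynomial.aeval c.x (MvPolynomial.pderiv i P) =
              (∑ j, MvPolynomial.aeval c.x (MvPolynomial.pderiv j P) * c.D i (c.x j)) -
              ∑ j, MvPolynomial.aeval c.x (MvPolynomial.pderiv j P) *
                (c.D i (c.x j) - if i = j then 1 else 0) := by
            rw [← Finset.sum_sub_distrib]
            simp [mul_sub]
          rw [h3]
          exact sub_mem h1 (Submodule.sum_mem _ fun j _ => h2 j)
      ext α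
      rw [MvPolynomial.coeff_zero]
      by_contra hα
      have hdeg := hP hα
      obtain ⟨i, hi⟩ : ∃ i, α i ≠ 0 := by
        by_contra! h
        have : α = 0 := Finsupp.ext fun i => h i
        simp [this] at hdeg
      have h1 := congrArg (MvPolynomial.coeff (α - Finsupp.single i 1)) (hpd i)
      have hle : Finsupp.single i 1 ≤ α := by
        rw [Finsupp.single_le_iff]; omega
      rw [MvPolynomial.coeff_pderiv, tsub_add_cancel_of_le hle, MvPolynomial.coeff_zero] at h1
      have hnat : (((α - Finsupp.single i 1 : Fin n →₀ ℕ) i : ℕ) : k) + 1 = (α i : k) := by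
        rw [← Nat.cast_succ]
        congr 1
        simp
        omega
      rw [hnat] at h1
      rcases mul_eq_zero.1 h1 with h | h
      · exact hα h
      · exact hp _ (hexp α (MvPolynomial.mem_support_iff.2 hα) i) hi h

lemma eq_zero_of_aeval_eq_zero (p : ℕ) (hp : ∀ m < p, m ≠ 0 → (m : k) ≠ 0)
    (P : MvPolynomial (Fin n) k) (hexp : ∀ α ∈ P.support, ∀ i, α i < p)
    (h : MvPolynomial.aeval c.x P = 0) : P = 0 := by
  classical
  have key : ∀ d, MvPolynomial.homogeneousComponent d P = 0 := by
    intro d
    induction d using Nat.strong_induction_on with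
    | _ d ih =>
      refine c.eq_zero_of_homogeneous_mem p hp d _ (MvPolynomial.homogeneousComponent_isHomogeneous d P) ?_ ?_
      · intro α hα
        refine hexp α ?_
        rw [MvPolynomial.mem_support_iff] at hα ⊢
        rw [MvPolynomial.coeff_homogeneousComponent] at hα
        exact fun hc => hα (by simp [hc])
      · have h2 := congrArg (MvPolynomial.aeval c.x) (MvPolynomial.sum_homogeneousComponent P)
        rw [h, map_sum] at h2
        by_cases hd : d ∈ Finset.range (P.totalDegree + 1)
        · rw [← Finset.add_sum_erase _ _ hd, add_eq_zero_iff_eq_neg] at h2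
          rw [h2, neg_mem_iff]
          refine Submodule.sum_mem _ fun e he => ?_
          rcases lt_or_gt_of_ne (Finset.ne_of_mem_erase he) with he' | he'
          · simp [ih e he']
          · exact Ideal.pow_le_pow_right he'
              (c.aeval_mem_pow (MvPolynomial.homogeneousComponent_isHomogeneous e P))
        · rw [MvPolynomial.homogeneousComponent_eq_zero d P (by simpa [Nat.lt_succ_iff] using hd)]
          simp
  rw [← MvPolynomial.sum_homogeneousComponent P]
  exact Finset.sum_eq_zero fun d _ => key d

lemma linearIndependent_mono (p : ℕ) (hp : ∀ m < p, m ≠ 0 → (m : k) ≠ 0) :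
    LinearIndependent k (mono c.x p) := by
  classical
  rw [Fintype.linearIndependent_iff]
  intro g hg α
  let e : (Fin n → Fin p) → (Fin n →₀ ℕ) := fun α => Finsupp.equivFunOnFinite.symm fun i => (α i : ℕ)
  have he : Function.Injective e := fun α β h =>
    funext fun i => Fin.ext (congrFun (Finsupp.equivFunOnFinite.symm.injective h) i)
  let P : MvPolynomial (Fin n) k := ∑ β, MvPolynomial.monomial (e β) (g β)
  have hP : P = 0 := by
    refine c.eq_zero_of_aeval_eq_zero p hp P ?_ ?_
    · intro γ hγ i
      obtain ⟨β, _, hβ⟩ := Finset.mem_biUnion.1 (MvPolynomial.support_sum hγ)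
      rw [Finset.mem_singleton.1 (MvPolynomial.support_monomial_subset hβ)]
      exact (β i).2
    · rw [← hg, map_sum]
      refine Finset.sum_congr rfl fun β _ => ?_
      rw [MvPolynomial.aeval_monomial, Algebra.smul_def, Finsupp.prod_fintype _ _ (by simp)]
      rfl
  have h := congrArg (MvPolynomial.coeff (e α)) hP
  simpa [P, MvPolynomial.coeff_sum, MvPolynomial.coeff_monomial, he.eq_iff] using h

lemma ker_le_span (hnil : IsNilpotent (RingHom.ker ε)) :
    RingHom.ker ε ≤ Ideal.span (Set.range c.x) := by
  obtain ⟨N, hN⟩ := hnil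
  let J := Ideal.span (Set.range c.x)
  have hJ : J ≤ RingHom.ker ε := by
    rw [Ideal.span_le]
    rintro _ ⟨i, rfl⟩
    exact c.eps_x i
  have key : ∀ m, RingHom.ker ε ≤ J ⊔ RingHom.ker ε ^ (m + 1) := by
    intro m
    induction m with
    | zero => simp
    | succ m ih =>
        refine c.span.trans (sup_le le_sup_left ?_)
        refine (mul_le_mul' le_rfl ih).trans ?_
        rw [Ideal.mul_sup]
        exact sup_le (le_sup_of_le_left Ideal.mul_le_right) (le_sup_of_le_right (pow_succ' (RingHom.ker ε) (m + 1)).ge)
  refine (key N).trans ?_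
  rw [pow_succ, hN]
  simp [J]

lemma span_mono (p : ℕ) (hnil : IsNilpotent (RingHom.ker ε)) (hx : ∀ i, c.x i ^ p = 0) :
    Submodule.span k (Set.range (mono c.x p)) = ⊤ := by
  classical
  let S := Algebra.adjoin k (Set.range c.x)
  have hS : ∀ m, ∀ a : A, ∃ s ∈ S, a - s ∈ RingHom.ker ε ^ m := by
    intro m
    induction m with
    | zero => exact fun a => ⟨0, S.zero_mem, by simp⟩
    | succ m ih =>
        intro a
        have h1 : a - algebraMap k A (ε a) ∈ Ideal.span (Set.range c.x) :=
          c.ker_le_span hnil (by rw [RingHom.mem_ker, map_sub, AlgHom.commutes]; simp)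
        obtain ⟨b, hb⟩ := Ideal.mem_span_range_iff_exists_fun.1 h1
        choose s hs hbs using fun i => ih (b i)
        refine ⟨algebraMap k A (ε a) + ∑ i, s i * c.x i, add_mem (S.algebraMap_mem _)
          (Subalgebra.sum_mem _ fun i _ => mul_mem (hs i) (Algebra.subset_adjoin ⟨i, rfl⟩)), ?_⟩
        rw [sub_add_eq_sub_sub, ← hb, ← Finset.sum_sub_distrib]
        refine Submodule.sum_mem _ fun i _ => ?_
        rw [← sub_mul, pow_succ]
        exact Ideal.mul_mem_mul (hbs i) (c.eps_x i)
  obtain ⟨N, hN⟩ := hnil
  rw [eq_top_iff]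
  intro a _
  obtain ⟨s, hs, hsa⟩ := hS N a
  rw [hN, Submodule.zero_eq_bot, Ideal.mem_bot, sub_eq_zero] at hsa
  subst hsa
  rw [show S = (MvPolynomial.aeval c.x).range from Algebra.adjoin_range_eq_range_aeval k c.x] at hs
  obtain ⟨P, rfl⟩ := hs
  show MvPolynomial.aeval c.x P ∈ _
  rw [P.as_sum, map_sum]
  refine Submodule.sum_mem _ fun α _ => ?_
  rw [MvPolynomial.aeval_monomial, ← Algebra.smul_def]
  refine Submodule.smul_mem _ _ ?_
  rw [Finsupp.prod_fintype _ _ (by simp)]
  by_cases h : ∀ i, α i < p
  · exact Submodule.subset_span ⟨fun i => ⟨α i, h i⟩, rfl⟩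
  · push Not at h
    obtain ⟨i, hi⟩ := h
    rw [Finset.prod_eq_zero (f := fun j => c.x j ^ α j) (Finset.mem_univ i) (_root_.pow_eq_zero_of_le hi (hx i))]
    exact zero_mem _

end Coords

section Bialgebra

open Groth.Agent.Lib.Hopf.ComodRing

variable {k : Type u} [Field k] {A : Type v} [CommRing A] [Bialgebra k A]

lemma slice_mul_derivation (δ : A →ₗ[k] k)
    (hδ : ∀ a b, δ (a * b) = Bialgebra.counitAlgHom k A a * δ b + Bialgebra.counitAlgHom k A b * δ a)
    (y z : A ⊗[k] A) :
    slice δ (y * z) =
      slice (CoalgebraStruct.counit (R := k) (A := A)) y * slice δ z +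
        slice (CoalgebraStruct.counit (R := k) (A := A)) z * slice δ y := by
  induction y using TensorProduct.induction_on with
  | zero => simp
  | tmul a b =>
      induction z using TensorProduct.induction_on with
      | zero => simp
      | tmul a' b' =>
          simp only [Algebra.TensorProduct.tmul_mul_tmul, slice_tmul, hδ,
            Bialgebra.counitAlgHom_apply, add_smul, mul_smul, smul_mul_assoc, mul_smul_comm]
          simp only [smul_smul, mul_comm]
      | add p q hp hq => simp [mul_add, add_mul, hp, hq]; abel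
  | add p q hp hq => simp [mul_add, add_mul, hp, hq]; abel

lemma slice_counit_comul (a : A) :
    slice (CoalgebraStruct.counit (R := k) (A := A)) (CoalgebraStruct.comul (R := k) a) = a := by
  simp [slice]

/-- Coordinates exist on a finite type bialgebra over a field. -/
lemma exists_coords [Algebra.FiniteType k A] :
    ∃ n, Nonempty (Coords k A (Bialgebra.counitAlgHom k A) n) := by
  classical
  set ε := Bialgebra.counitAlgHom k A with hεdef
  have hI : ∀ a, a - algebraMap k A (ε a) ∈ RingHom.ker ε := fun a => by
    rw [RingHom.mem_ker, map_sub, AlgHom.commutes]; simp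
  have : IsNoetherianRing A := Algebra.FiniteType.isNoetherianRing k A
  obtain ⟨s, hs⟩ := IsNoetherian.noetherian (RingHom.ker ε)
  let W : Submodule k A :=
    (RingHom.ker ε * RingHom.ker ε : Ideal A).restrictScalars k ⊔ Submodule.span k {1}
  have hgen : ∀ a ∈ RingHom.ker ε, W.mkQ a ∈ Submodule.span k (W.mkQ '' (s : Set A)) := by
    intro a ha
    rw [← hs] at ha
    have : ∀ a ∈ Ideal.span (s : Set A), a ∈ RingHom.ker ε ∧
        W.mkQ a ∈ Submodule.span k (W.mkQ '' (s : Set A)) := by
      intro a ha
      induction ha using Submodule.span_induction with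
      | mem x hx => exact ⟨hs ▸ Ideal.subset_span hx, Submodule.subset_span ⟨x, hx, rfl⟩⟩
      | zero => simp
      | add x y _ _ hx hy =>
          exact ⟨add_mem hx.1 hy.1, by rw [map_add]; exact add_mem hx.2 hy.2⟩
      | smul c x _ hx =>
          refine ⟨Ideal.mul_mem_left _ _ hx.1, ?_⟩
          have : W.mkQ (c • x) = ε c • W.mkQ x := by
            rw [← map_smul, Submodule.mkQ_apply, Submodule.mkQ_apply, Submodule.Quotient.eq,
              smul_eq_mul, Algebra.smul_def, ← sub_mul]
            exact Submodule.mem_sup_left (Ideal.mul_mem_mul (hI c) hx.1)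
          rw [this]
          exact Submodule.smul_mem _ _ hx.2
    exact (this a ha).2
  have hW1 : W.mkQ (1 : A) = 0 :=
    (Submodule.Quotient.mk_eq_zero _).2 (Submodule.mem_sup_right (Submodule.mem_span_singleton_self _))
  have hq : ∀ a, W.mkQ (a - algebraMap k A (ε a)) = W.mkQ a := fun a => by
    rw [map_sub, Algebra.algebraMap_eq_smul_one, map_smul, hW1, smul_zero, sub_zero]
  have : Module.Finite k (A ⧸ W) := by
    refine ⟨⟨s.image W.mkQ, eq_top_iff.2 fun y _ => ?_⟩⟩
    obtain ⟨a, rfl⟩ := Submodule.mkQ_surjective _ y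
    rw [Finset.coe_image, ← hq a]
    exact hgen _ (hI a)
  let b := Module.finBasis k (A ⧸ W)
  choose y hy using fun i => Submodule.mkQ_surjective W (b i)
  let x : Fin (Module.finrank k (A ⧸ W)) → A := fun i => y i - algebraMap k A (ε (y i))
  have hxb : ∀ i, W.mkQ (x i) = b i := fun i => (hq (y i)).trans (hy i)
  let δ := fun i => b.coord i ∘ₗ W.mkQ
  have hδ : ∀ i a c, δ i (a * c) = ε a * δ i c + ε c * δ i a := by
    intro i a c
    have : W.mkQ (a * c) = ε a • W.mkQ c + ε c • W.mkQ a := by
      have e : a * c = (a - algebraMap k A (ε a)) * (c - algebraMap k A (ε c)) +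
          ((ε a • c + ε c • a) - (ε a * ε c) • (1 : A)) := by
        simp only [Algebra.smul_def, map_mul]; ring
      rw [e, map_add, map_sub, map_add, map_smul, map_smul, map_smul, hW1, smul_zero, sub_zero,
        show W.mkQ ((a - algebraMap k A (ε a)) * (c - algebraMap k A (ε c))) = 0 from
          (Submodule.Quotient.mk_eq_zero _).2
            (Submodule.mem_sup_left (Ideal.mul_mem_mul (hI a) (hI c))), zero_add]
    simp [δ, this]
  refine ⟨_, ⟨{
    x := x
    D := fun i => slice (δ i) ∘ₗ CoalgebraStruct.comul (R := k) (A := A)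
    leibniz := fun i a c => ?_
    eps_x := fun i => hI (y i)
    eps_D := fun i j => ?_
    span := ?_ }⟩⟩
  · simp [Bialgebra.comul_mul, slice_mul_derivation _ (hδ i), slice_counit_comul]
  · have key : ∀ z : A ⊗[k] A, ε (slice (δ i) z) =
        δ i (TensorProduct.lid k A ((CoalgebraStruct.counit (R := k) (A := A)).rTensor A z)) := by
      intro z
      induction z using TensorProduct.induction_on with
      | zero => simp
      | tmul p q => simp [hεdef, mul_comm]
      | add p q hp hq => simp [hp, hq]
    rw [LinearMap.comp_apply, key, Coalgebra.rTensor_counit_comul, TensorProduct.lid_tmul, one_smul]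
    simp only [δ, LinearMap.comp_apply, hxb, Module.Basis.coord_apply, Module.Basis.repr_self,
      Finsupp.single_apply]
    simp [eq_comm]
  · intro a ha
    let z := ∑ i, (b.repr (W.mkQ a) i) • x i
    have hz : W.mkQ (a - z) = 0 := by
      simp only [z, map_sub, map_sum, map_smul, hxb, b.sum_repr, sub_self]
    obtain ⟨u, hu, w, hw, huw⟩ := Submodule.mem_sup.1 ((Submodule.Quotient.mk_eq_zero _).1 hz)
    obtain ⟨r, rfl⟩ := Submodule.mem_span_singleton.1 hw
    have hεz : ε z = 0 := by
      simp only [z, map_sum, map_smul, show ∀ i, ε (x i) = 0 from fun i => hI (y i), smul_zero,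
        Finset.sum_const_zero]
    have hr : r = 0 := by
      have h := congrArg ε huw
      rw [map_add, map_sub, map_smul, map_one, hεz, RingHom.mem_ker.1 ha,
        show ε u = 0 from Ideal.mul_le_left hu] at h
      simpa using h
    rw [hr, zero_smul, add_zero] at huw
    have : a = z + u := by rw [huw]; abel
    rw [this]
    refine Submodule.add_mem_sup ?_ hu
    exact Submodule.sum_mem _ fun i _ =>
      Submodule.smul_of_tower_mem _ _ (Ideal.subset_span ⟨i, rfl⟩)

end Bialgebra

end Groth.Agent.Lib.Hopf.HeightOne
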