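import Groth.Agent.Lib.Hopf.HeightOne
import Mathlib.RingTheory.HopfAlgebra.TensorProduct
import Mathlib.RingTheory.LocalRing.Module
import Mathlib.RingTheory.Finiteness.ModuleFinitePresentation
import Mathlib.RingTheory.IntegralClosure.IsIntegralClosure.Basic
import Mathlib.Algebra.CharP.Lemmas
import Mathlib.Algebra.CharP.Algebra
import Mathlib.RingTheory.Noetherian.Nilpotent
import Mathlib.RingTheory.Nilpotent.Lemmas

/-!
Height one Hopf algebras over local rings are truncated polynomial algebras.
-/

open TensorProduct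

namespace Groth.Agent.Lib.Hopf.HeightOneLocal

universe u v

open Groth.Agent.Lib.Hopf.HeightOne

/-- An algebra with a basis of small monomials in elements killed by the `p`-th power is a
truncated polynomial algebra. -/
lemma algEquiv_of_mono_bijective {R : Type u} {A : Type v} [CommRing R] [CommRing A] [Algebra R A]
    {n p : ℕ} (x : Fin n → A) (hx : ∀ i, x i ^ p = 0)
    (hb : Function.Bijective (Finsupp.linearCombination R (mono x p))) :
    Nonempty (A ≃ₐ[R] (MvPolynomial (Fin n) R ⧸
      Ideal.span (Set.range fun i : Fin n => (MvPolynomial.X i : MvPolynomial (Fin n) R) ^ p))) := by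
  classical
  set I := Ideal.span (Set.range fun i : Fin n => (MvPolynomial.X i : MvPolynomial (Fin n) R) ^ p)
  have hI : I ≤ RingHom.ker (MvPolynomial.aeval (R := R) x) := by
    rw [Ideal.span_le]
    rintro _ ⟨i, rfl⟩
    simp [hx i]
  let φ : (MvPolynomial (Fin n) R ⧸ I) →ₐ[R] A := Ideal.Quotient.liftₐ I (MvPolynomial.aeval x) hI
  let s : ((Fin n → Fin p) →₀ R) →ₗ[R] (MvPolynomial (Fin n) R ⧸ I) :=
    Finsupp.linearCombination R fun α => Ideal.Quotient.mkₐ R I (mono MvPolynomial.X p α)
  have hs : φ.toLinearMap ∘ₗ s = Finsupp.linearCombination R (mono x p) := by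
    refine Finsupp.lhom_ext fun α r => ?_
    simp only [LinearMap.comp_apply, AlgHom.toLinearMap_apply, s, Finsupp.linearCombination_single, map_smul]
    congr 1
    show MvPolynomial.aeval x (mono MvPolynomial.X p α) = _
    simp [mono, map_prod]
  have hsurj : Function.Surjective s := by
    intro q
    obtain ⟨P, rfl⟩ := Ideal.Quotient.mkₐ_surjective R I q
    suffices h : Ideal.Quotient.mkₐ R I P ∈ LinearMap.range s from h
    rw [P.as_sum, map_sum]
    refine Submodule.sum_mem _ fun α _ => ?_
    rw [MvPolynomial.monomial_eq, map_mul, ← MvPolynomial.algebraMap_eq, AlgHom.commutes,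
      ← Algebra.smul_def]
    refine Submodule.smul_mem _ _ ?_
    rw [Finsupp.prod_fintype _ _ (by simp)]
    by_cases h : ∀ i, α i < p
    · exact ⟨Finsupp.single (fun i => ⟨α i, h i⟩) 1, by simp [s, mono]⟩
    · push Not at h
      obtain ⟨i, hi⟩ := h
      refine ⟨0, ?_⟩
      rw [map_zero, eq_comm, Ideal.Quotient.mkₐ_eq_mk, Ideal.Quotient.eq_zero_iff_mem]
      refine I.mem_of_dvd (Finset.dvd_prod_of_mem (fun j => (MvPolynomial.X j : MvPolynomial (Fin n) R) ^ α j) (Finset.mem_univ i)) ?_
      exact Ideal.mem_of_dvd _ (pow_dvd_pow _ hi) (Ideal.subset_span ⟨i, rfl⟩)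
  have hbij : Function.Bijective φ := by
    refine ⟨fun a b hab => ?_, fun y => ?_⟩
    · obtain ⟨a, rfl⟩ := hsurj a
      obtain ⟨b, rfl⟩ := hsurj b
      congr 1
      apply hb.1
      rw [← hs]
      exact hab
    · obtain ⟨c, rfl⟩ := hb.2 y
      exact ⟨s c, LinearMap.congr_fun hs c⟩
  exact ⟨(AlgEquiv.ofBijective φ hbij).symm⟩

/-- A finitely presented flat Hopf algebra of height one over a local ring is a truncated
polynomial algebra. -/
lemma exists_algEquiv (p : ℕ) [Fact p.Prime] (R : Type u) [CommRing R] [IsLocalRing R] [CharP R p]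
    (A : Type u) [CommRing A] [Bialgebra R A] [Algebra.FinitePresentation R A] [Module.Flat R A]
    (h1 : ∀ a : A, Bialgebra.counitAlgHom R A a = 0 → a ^ p = 0) :
    ∃ n : ℕ, Nonempty (A ≃ₐ[R] (MvPolynomial (Fin n) R ⧸
      Ideal.span (Set.range fun i : Fin n => (MvPolynomial.X i : MvPolynomial (Fin n) R) ^ p))) := by
  classical
  let ε := Bialgebra.counitAlgHom R A
  have : CharP A p := charP_of_injective_algebraMap (Bialgebra.algebraMap_injective (R := R) A) p
  have hpow : ∀ a : A, a ^ p = algebraMap R A (ε a ^ p) := by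
    intro a
    have h := h1 (a - algebraMap R A (ε a)) (by
      show ε (a - algebraMap R A (ε a)) = 0
      simp [map_sub])
    rw [sub_pow_char, sub_eq_zero] at h
    rw [h, map_pow]
  have : Algebra.IsIntegral R A := ⟨fun a =>
    ⟨Polynomial.X ^ p - Polynomial.C (ε a ^ p),
      Polynomial.monic_X_pow_sub_C _ (Fact.out : p.Prime).ne_zero, by simp [hpow a]⟩⟩
  have : Module.Finite R A := Algebra.IsIntegral.finite
  let κ := IsLocalRing.ResidueField R
  have : CharP κ p := by
    refine ringChar.of_eq (CharP.ringChar_of_prime_eq_zero Fact.out ?_)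
    rw [← map_natCast (algebraMap R κ), CharP.cast_eq_zero, map_zero]
  let εκ := Bialgebra.counitAlgHom κ (κ ⊗[R] A)
  have hεκ : ∀ (l : κ) (a : A), εκ (l ⊗ₜ a) = ε a • l := fun l a => by
    simp [εκ, ε]
  have : CharP (κ ⊗[R] A) p :=
    charP_of_injective_algebraMap (Bialgebra.algebraMap_injective (R := κ) (κ ⊗[R] A)) p
  have hκpow : ∀ z : κ ⊗[R] A, z ^ p = algebraMap κ (κ ⊗[R] A) (εκ z ^ p) := by
    intro z
    induction z using TensorProduct.induction_on with
    | zero => simp [(Fact.out : p.Prime).ne_zero]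
    | tmul l a =>
        rw [Algebra.TensorProduct.tmul_pow, hpow a, Algebra.algebraMap_eq_smul_one, tmul_smul,
          hεκ, smul_pow, smul_tmul']
        rfl
    | add z w hz hw => rw [add_pow_char, hz, hw, map_add, add_pow_char, map_add]
  obtain ⟨n, ⟨c⟩⟩ := exists_coords (k := κ) (A := κ ⊗[R] A)
  have hnil : IsNilpotent (RingHom.ker εκ) := by
    have : IsNoetherianRing (κ ⊗[R] A) := Algebra.FiniteType.isNoetherianRing κ _
    rw [Ideal.FG.isNilpotent_iff_le_nilradical (IsNoetherian.noetherian _)]
    intro z hz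
    refine ⟨p, ?_⟩
    rw [hκpow, RingHom.mem_ker.1 hz, zero_pow (Fact.out : p.Prime).ne_zero, map_zero]
    exact Submodule.zero_mem _
  have hcx : ∀ i, c.x i ^ p = 0 := fun i => by
    rw [hκpow, show εκ (c.x i) = 0 from c.eps_x i, zero_pow (Fact.out : p.Prime).ne_zero, map_zero]
  choose y hy using fun i => TensorProduct.mk_surjective R A κ IsLocalRing.residue_surjective (c.x i)
  let x : Fin n → A := fun i => y i - algebraMap R A (ε (y i))
  have hx : ∀ i, x i ^ p = 0 := fun i => h1 _ (by
    show ε (y i - algebraMap R A (ε (y i))) = 0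
    simp [map_sub])
  have hxc : ∀ i, (1 : κ) ⊗ₜ[R] x i = c.x i := fun i => by
    have h2 := c.eps_x i
    rw [← hy i, TensorProduct.mk_apply] at h2
    rw [hεκ] at h2
    simp only [x, tmul_sub, Algebra.algebraMap_eq_smul_one, tmul_smul, smul_tmul', h2,
      TensorProduct.zero_tmul, sub_zero]
    exact hy i
  have hmono : TensorProduct.mk R κ A 1 ∘ mono x p = mono c.x p := by
    funext α
    show Algebra.TensorProduct.includeRight (R := R) (A := κ) (mono x p α) = _
    simp [mono, map_prod, ← hxc, Algebra.TensorProduct.tmul_pow]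
  have hgood : ∀ m < p, m ≠ 0 → (m : κ) ≠ 0 := fun m hm hm0 h => by
    rw [CharP.cast_eq_zero_iff κ p] at h
    exact absurd (Nat.le_of_dvd (Nat.pos_of_ne_zero hm0) h) (not_le.2 hm)
  have hb : Function.Bijective (Finsupp.linearCombination R (mono x p)) := by
    have : Module.FinitePresentation R A :=
      Module.FinitePresentation.of_finite_of_finitePresentation R A
    refine Module.IsLocalRing.linearCombination_bijective_of_flat _ ?_
    rw [hmono]
    refine ⟨c.linearIndependent_mono p hgood, ?_⟩
    rw [← LinearMap.range_eq_top, Finsupp.range_linearCombination]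
    exact c.span_mono p hnil hcx
  exact ⟨n, algEquiv_of_mono_bijective x hx hb⟩

end Groth.Agent.Lib.Hopf.HeightOneLocal
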