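import Groth.Agent.Lib.Regular.Serre
import Groth.Agent.Lib.Regular.PD
import Mathlib.RingTheory.LocalProperties.ProjectiveDimension
import Mathlib.RingTheory.KrullDimension.Basic
import Mathlib.RingTheory.Ideal.Height
import Mathlib.LinearAlgebra.Dual.Lemmas
import Mathlib.Algebra.Module.FinitePresentation
import Mathlib.RingTheory.Localization.Finiteness

/-!
Over a regular ring of dimension at most two second syzygies, in particular duals, are projective.
-/

namespace Groth.Agent.Lib.Hopf.RegularDimTwo

universe u

open Groth.Agent.Lib.Regular.PD CategoryTheory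

variable {R : Type u} [CommRing R] [IsRegularRing R]

lemma pdle_two (hdim : ringKrullDim R ≤ 2) (M : Type u) [AddCommGroup M] [Module R M]
    [Module.Finite R M] : PDle R M 2 := by
  refine ((ModuleCat.of R M).hasProjectiveDimensionLE_iff_forall_maximalSpectrum 2).2 fun m => ?_
  let N := (ModuleCat.of R M).localizedModule m.1.primeCompl
  have := ModuleCat.localizedModule_isLocalizedModule (ModuleCat.of R M) m.1.primeCompl
  have : Module.Finite R (ModuleCat.of R M) := inferInstanceAs (Module.Finite R M)
  have : Module.Finite (Localization m.1.primeCompl) N :=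
    Module.Finite.of_isLocalizedModule m.1.primeCompl ((ModuleCat.of R M).localizedModuleMkLinearMap m.1.primeCompl)
  have hreg : IsRegularLocalRing (Localization m.1.primeCompl) :=
    IsRegularRing.isRegularLocalRing_localization m.1
  have h1 := IsRegularLocalRing.spanFinrank_maximalIdeal (R := Localization m.1.primeCompl)
  have h2 : ringKrullDim (Localization m.1.primeCompl) ≤ ringKrullDim R := by
    rw [IsLocalization.AtPrime.ringKrullDim_eq_height m.1 (Localization m.1.primeCompl)]
    exact Ideal.height_le_ringKrullDim_of_ne_top (Ideal.IsPrime.ne_top inferInstance)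
  rw [← h1] at h2
  have h3 : (IsLocalRing.maximalIdeal (Localization m.1.primeCompl)).spanFinrank ≤ 2 := by
    exact_mod_cast h2.trans hdim
  exact pdle_mono (Groth.Agent.Lib.Regular.Serre.pdle_all (R := Localization m.1.primeCompl) N) h3

/-- The kernel of a map between finite projective modules is projective. -/
lemma projective_ker (hdim : ringKrullDim R ≤ 2) {F G : Type u} [AddCommGroup F] [Module R F]
    [Module.Finite R F] [Module.Projective R F] [AddCommGroup G] [Module R G] [Module.Finite R G]
    [Module.Projective R G] (g : F →ₗ[R] G) : Module.Projective R (LinearMap.ker g) := by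
  have h1 := (pdle_succ_iff (Submodule.mkQ_surjective (LinearMap.range g)) 1).1
    (pdle_two hdim (G ⧸ LinearMap.range g))
  rw [Submodule.ker_mkQ] at h1
  have h0 := (pdle_succ_iff g.surjective_rangeRestrict 0).1 h1
  rw [LinearMap.ker_rangeRestrict] at h0
  exact pdle_zero_iff.1 h0

lemma projective_dual (hdim : ringKrullDim R ≤ 2) (M : Type u) [AddCommGroup M] [Module R M]
    [Module.Finite R M] : Module.Projective R (Module.Dual R M) ∧ Module.Finite R (Module.Dual R M) := by
  obtain ⟨n, m, f, g, hf, hfg⟩ :=
    Module.FinitePresentation.exists_fin' (R := R) (M := M) (fp := Module.finitePresentation_of_finite R M)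
  have hex : LinearMap.range f.dualMap = LinearMap.ker g.dualMap := by
    refine le_antisymm ?_ ?_
    · rintro _ ⟨φ, rfl⟩
      ext x
      simp [hfg.apply_apply_eq_zero]
    · intro ψ hψ
      have hle : LinearMap.ker f ≤ LinearMap.ker ψ := by
        rw [hfg.linearMap_ker_eq]
        rintro _ ⟨y, rfl⟩
        exact LinearMap.congr_fun hψ y
      refine ⟨(LinearMap.ker f).liftQ ψ hle ∘ₗ (f.quotKerEquivOfSurjective hf).symm.toLinearMap, ?_⟩
      refine LinearMap.ext fun x => ?_
      show (LinearMap.ker f).liftQ ψ hle ((f.quotKerEquivOfSurjective hf).symm (f x)) = ψ x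
      rw [show f x = f.quotKerEquivOfSurjective hf (Submodule.Quotient.mk x) from rfl,
        LinearEquiv.symm_apply_apply]
      rfl
  let e : Module.Dual R M ≃ₗ[R] LinearMap.ker g.dualMap :=
    (LinearEquiv.ofInjective f.dualMap (LinearMap.dualMap_injective_of_surjective hf)).trans
      (LinearEquiv.ofEq _ _ hex)
  have := projective_ker hdim g.dualMap
  exact ⟨Module.Projective.of_equiv e.symm, Module.Finite.equiv e.symm⟩

end Groth.Agent.Lib.Hopf.RegularDimTwo
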