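import Groth.Agent.Lib.Hopf.Points
import Mathlib.FieldTheory.Separable
import Mathlib.FieldTheory.Minpoly.Field
import Mathlib.RingTheory.Nilpotent.Lemmas
import Mathlib.RingTheory.TensorProduct.Free
import Mathlib.Algebra.CharP.Algebra
import Mathlib.Algebra.CharP.Frobenius
import Mathlib.LinearAlgebra.Lagrange

/-!
Over an algebraically closed field of prime characteristic, a separable element of `A ⊗ B` lies in
`B₀ ⊗ B`, where `B₀` is the algebra of separable elements of `A`.
-/

open TensorProduct Polynomial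

namespace Groth.Agent.Lib.Hopf.SepTensor

universe u

open Groth.Agent.Lib.Hopf.ComodRing Groth.Agent.Lib.Hopf.Points

variable {k : Type u} [Field k]

lemma isSeparable_map {A B : Type u} [CommRing A] [Algebra k A] [CommRing B] [Algebra k B]
    (f : A →ₐ[k] B) {a : A} (ha : IsSeparable k a) : IsSeparable k (f a) :=
  Separable.of_dvd ha (minpoly.dvd k (f a) (by rw [aeval_algHom_apply, minpoly.aeval, map_zero]))

lemma eq_aeval_pow [IsAlgClosed k] (p : ℕ) [Fact p.Prime] [CharP k p] {T : Type u} [CommRing T]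
    [Algebra k T] (N : ℕ) {x : T} (hx : IsSeparable k x) :
    ∃ q : k[X], x = aeval (x ^ p ^ N) q := by
  classical
  set f := minpoly k x
  have hf0 : f ≠ 0 := Separable.ne_zero hx
  have hmonic : f.Monic := minpoly.monic (minpoly.ne_zero_iff.1 hf0)
  let s := f.roots.toFinset
  have hinj : Set.InjOn (fun r : k => r ^ p ^ N) s := by
    intro a _ b _ h
    exact iterateFrobenius_inj k p N h
  let q := Lagrange.interpolate s (fun r : k => r ^ p ^ N) (fun r => r)
  have hq : f ∣ q.comp (X ^ p ^ N) - X := by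
    by_cases h0 : q.comp (X ^ p ^ N) - X = 0
    · rw [h0]; exact dvd_zero _
    refine (IsAlgClosed.splits f).dvd_of_roots_le_roots hf0 ?_
    refine (Multiset.le_iff_subset (nodup_roots hx)).2 fun r hr => ?_
    rw [mem_roots h0, IsRoot.def, eval_sub, eval_comp, eval_pow, eval_X]
    rw [Lagrange.eval_interpolate_at_node (fun r => r) hinj (Multiset.mem_toFinset.2 hr), sub_self]
  refine ⟨q, ?_⟩
  obtain ⟨c, hc⟩ := hq
  have := congrArg (aeval x) hc
  rw [map_mul, minpoly.aeval, zero_mul, map_sub, aeval_comp, map_pow, aeval_X, sub_eq_zero] at this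
  exact this.symm

variable [IsAlgClosed k]

theorem mem_tensorRight (p : ℕ) [Fact p.Prime] [CharP k p] {A B : Type u} [CommRing A] [Algebra k A]
    [CommRing B] [Algebra k B] {B₀ : Subalgebra k A} (hB₀ : ∀ a : A, IsSeparable k a → a ∈ B₀)
    {x : A ⊗[k] B} (hx : IsSeparable k x) : x ∈ tensorRight B (Subalgebra.toSubmodule B₀) := by
  classical
  obtain ⟨S, hS⟩ := TensorProduct.exists_finset x
  let B' := Algebra.adjoin k ((S.image Prod.snd : Finset B) : Set B)
  have : Algebra.FiniteType k B' := ⟨Subalgebra.fg_top B' |>.2 (Subalgebra.fg_adjoin_finset _)⟩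
  let ι : A ⊗[k] B' →ₐ[k] A ⊗[k] B := Algebra.TensorProduct.map (AlgHom.id k A) B'.val
  have hι : Function.Injective ι :=
    Module.Flat.lTensor_preserves_injective_linearMap (M := A) B'.val.toLinearMap Subtype.val_injective
  obtain ⟨x, rfl⟩ : ∃ x', ι x' = x := by
    refine ⟨∑ i ∈ S.attach, i.1.1 ⊗ₜ[k] (⟨i.1.2, Algebra.subset_adjoin (by
      exact_mod_cast Finset.mem_image_of_mem _ i.2)⟩ : B'), ?_⟩
    rw [map_sum, hS, ← Finset.sum_attach S]
    rfl
  have hx' : IsSeparable k x := by
    unfold IsSeparable at hx ⊢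
    rwa [minpoly.algHom_eq ι hι] at hx
  let Q := B' ⧸ nilradical B'
  let π : B' →ₐ[k] Q := Ideal.Quotient.mkₐ k _
  have : IsReduced Q := (Ideal.isRadical_iff_quotient_reduced _).1 (Ideal.radical_isRadical _)
  have : Algebra.FiniteType k Q := Algebra.FiniteType.of_surjective π Ideal.Quotient.mk_surjective
  let πA : A ⊗[k] B' →ₐ[k] A ⊗[k] Q := Algebra.TensorProduct.map (AlgHom.id k A) π
  have h1 : πA x ∈ tensorRight Q (Subalgebra.toSubmodule B₀) := by
    refine mem_tensorRight_of_points fun g => hB₀ _ ?_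
    let s : A ⊗[k] Q →ₐ[k] A :=
      (Algebra.TensorProduct.rid k k A).toAlgHom.comp (Algebra.TensorProduct.map (AlgHom.id k A) g)
    have hs : slice g.toLinearMap (πA x) = s (πA x) := by
      generalize πA x = y
      induction y using TensorProduct.induction_on with
      | zero => simp
      | tmul a b => simp [s]
      | add a b ha hb => simp [ha, hb]
    rw [hs]
    exact isSeparable_map (s.comp πA) hx'
  obtain ⟨y, hy⟩ := h1
  obtain ⟨y', rfl⟩ := LinearMap.lTensor_surjective (Subalgebra.toSubmodule B₀)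
    (g := π.toLinearMap) Ideal.Quotient.mk_surjective y
  let z : A ⊗[k] B' := Algebra.TensorProduct.map B₀.val (AlgHom.id k B') y'
  have hz : πA z = πA x := by
    rw [← hy]
    clear hy
    simp only [z]
    induction y' using TensorProduct.induction_on with
    | zero => simp
    | tmul a b => rfl
    | add a b ha hb => simp only [map_add, ha, hb]
  have hnil : IsNilpotent (x - z) := by
    have hex : Function.Exact ((Submodule.subtype ((nilradical B').restrictScalars k)).lTensor A)
        (π.toLinearMap.lTensor A) :=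
      _root_.lTensor_exact A (fun b => ⟨fun h => ⟨⟨b, Ideal.Quotient.eq_zero_iff_mem.1 h⟩, rfl⟩,
        fun ⟨c, hc⟩ => hc ▸ Ideal.Quotient.eq_zero_iff_mem.2 c.2⟩) Ideal.Quotient.mk_surjective
    obtain ⟨w, hw⟩ := (hex (x - z)).1 (by
      show πA (x - z) = 0
      rw [map_sub, hz, sub_self])
    rw [← hw]
    clear hw
    induction w using TensorProduct.induction_on with
    | zero => simp
    | tmul a b =>
        obtain ⟨n, hn⟩ := mem_nilradical.1 b.2
        exact ⟨n, by simp [Algebra.TensorProduct.tmul_pow, hn]⟩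
    | add a b ha hb => rw [map_add]; exact (Commute.all _ _).isNilpotent_add ha hb
  obtain ⟨m, hm⟩ := hnil
  rcases subsingleton_or_nontrivial (A ⊗[k] B') with h | h
  · exact (Subsingleton.elim x 0).symm ▸ (by rw [map_zero]; exact zero_mem _)
  have : CharP (A ⊗[k] B') p := charP_of_injective_algebraMap (algebraMap k _).injective p
  have : ExpChar (A ⊗[k] B') p := ExpChar.prime Fact.out
  have hpow : x ^ p ^ m = z ^ p ^ m := by
    rw [← sub_eq_zero, ← sub_pow_expChar_pow]
    exact pow_eq_zero_of_le (Nat.lt_pow_self (Fact.out : p.Prime).one_lt).le hm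
  obtain ⟨q, hq⟩ := eq_aeval_pow p m hx'
  rw [hpow] at hq
  let R := (Algebra.TensorProduct.map B₀.val (AlgHom.id k B)).range
  have hzR : ι z ∈ R := by
    refine ⟨Algebra.TensorProduct.map (AlgHom.id k B₀) B'.val y', ?_⟩
    simp only [z, ι]
    clear hy hz hm hpow hq z
    induction y' using TensorProduct.induction_on with
    | zero => simp
    | tmul a b => rfl
    | add a b ha hb => simp only [map_add] at *; exact congrArg₂ (· + ·) ha hb
  rw [hq, ← aeval_algHom_apply, map_pow]
  have hmem : aeval ((ι z) ^ p ^ m) q ∈ R := by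
    have : ((ι z) ^ p ^ m) = R.val ⟨_, R.pow_mem hzR (p ^ m)⟩ := rfl
    rw [this, aeval_algHom_apply]
    exact Subtype.mem _
  obtain ⟨r, hr⟩ := hmem
  exact ⟨r, hr⟩

end Groth.Agent.Lib.Hopf.SepTensor
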